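import Cfsg.Agent.AbelianInvCent.Main
import Cfsg.Agent.SL2C.ClassProducts
import Mathlib.GroupTheory.Transfer
import Mathlib.Algebra.Group.Shrink

/-!
# Abelian involution centralisers: the structure theorem
-/

set_option autoImplicit false

namespace CfsgLib.AbelianInvCent

open Subgroup
open scoped commutatorElement

universe u

variable {G : Type u} [Group G] [Finite G] {S : Sylow 2 G}

/-- An odd-order proper subgroup of `PSL₂` in characteristic two is cyclic. -/
theorem isCyclic_of_odd {F : Type*} [Field F] [Finite F] [CharP F 2]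
    (H : Subgroup (CfsgLib.Dickson.PSL2 F)) (hH : H ≠ ⊤) (hodd : Odd (Nat.card H)) : IsCyclic H := by
  haveI : Fact (Nat.Prime 2) := ⟨Nat.prime_two⟩
  have hev : ¬ 2 ∣ Nat.card H := fun h => Nat.not_even_iff_odd.2 hodd (even_iff_two_dvd.2 h)
  rcases CfsgLib.Linear.PSLTwo.proper_cases 2 H hH with ⟨P, h, -⟩ | ⟨h, -⟩ | ⟨k, -, -, -, hc, -⟩ |
    ⟨h5, -⟩ | ⟨h5, -⟩ | ⟨h2, -⟩ | ⟨f, m, hf, -, -, ⟨hc, -⟩ | ⟨h2, -⟩⟩
  · exact absurd h hev
  · exact h
  · exact absurd (hc ▸ dvd_mul_right 2 k) hev
  · omega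
  · omega
  · exact absurd rfl h2
  · exact absurd (hc ▸ Dvd.dvd.mul_right (dvd_pow_self 2 (by omega)) _) hev
  · exact absurd rfl h2

/-- A finite simple group is the image of the commutator subgroup under any surjection onto it. -/
theorem map_commutator_eq_top {H L : Type*} [Group H] [Group L] [IsSimpleGroup L] (f : H →* L)
    (hf : Function.Surjective f) (hL : ¬ Group.IsSolvable L) : (commutator H).map f = ⊤ := by
  have h1 : (commutator H).map f = commutator L := by
    rw [commutator_def, map_commutator, map_top_of_surjective f hf, ← commutator_def]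
  rw [h1]
  refine (IsSimpleGroup.eq_bot_or_eq_top_of_normal (commutator L) inferInstance).resolve_left fun h => hL ?_
  exact IsSimpleGroup.comm_iff_isSolvable.1 fun a b => by
    have : ⁅a, b⁆ ∈ commutator L := commutator_mem_commutator (mem_top a) (mem_top b)
    rw [h, mem_bot, commutatorElement_eq_one_iff_mul_comm] at this
    exact this

/-- Central elements of prime order in the derived subgroup do not occur when that prime has an abelian
Sylow subgroup. -/
theorem eq_one_of_transfer {H : Type*} [Group H] [Finite H] {p : ℕ} [Fact p.Prime] (P : Sylow p H)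
    (hP : IsMulCommutative (P : Subgroup H)) {x : H} (hxP : x ∈ (P : Subgroup H)) (hxc : x ∈ center H)
    (hx' : x ∈ commutator H) : x = 1 := by
  letI : CommGroup (P : Subgroup H) :=
    { (inferInstance : Group (P : Subgroup H)) with mul_comm := hP.is_comm.comm }
  haveI : (P : Subgroup H).FiniteIndex := ⟨index_ne_zero_of_finite⟩
  let τ : H →* (P : Subgroup H) := MonoidHom.transfer (MonoidHom.id (P : Subgroup H))
  have h1 : τ x = 1 := (MonoidHom.mem_ker).1 (Abelianization.commutator_subset_ker τ hx')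
  have key : ∀ (k : ℕ) (g₀ : H), g₀⁻¹ * x ^ k * g₀ ∈ (P : Subgroup H) → g₀⁻¹ * x ^ k * g₀ = x ^ k := fun k g₀ _ => by
    rw [mul_assoc, ← (show Commute g₀ (x ^ k) from (mem_center_iff.1 (pow_mem hxc k) g₀)).eq, inv_mul_cancel_left]
  have h2 := MonoidHom.transfer_eq_pow (MonoidHom.id (P : Subgroup H)) x key
  rw [show MonoidHom.transfer (MonoidHom.id (P : Subgroup H)) x = τ x from rfl, h1] at h2
  have h3 : x ^ (P : Subgroup H).index = 1 := (congrArg Subtype.val h2).symm
  obtain ⟨k, hk⟩ := IsPGroup.iff_card.1 P.2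
  have hcop : Nat.Coprime (Nat.card (P : Subgroup H)) (P : Subgroup H).index := by
    rw [hk]
    exact ((Fact.out : p.Prime).coprime_iff_not_dvd.2 P.not_dvd_index).pow_left k
  exact orderOf_eq_one_iff.1 (Nat.eq_one_of_dvd_coprimes hcop (orderOf_dvd_natCard _ hxP)
    (orderOf_dvd_of_pow_eq_one h3))

variable (hS : Hyp S)

include hS in
theorem exists_product : ∃ (F : Type) (_ : Field F) (_ : Fintype F) (A : Type) (_ : CommGroup A) (_ : Finite A),
    CharP F 2 ∧ Odd (Nat.card A) ∧ Nonempty (G ≃* Matrix.SpecialLinearGroup (Fin 2) F × A) := by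
  obtain ⟨F, iF, iFt, hFc, h4, hchar, ⟨e⟩⟩ := exists_psl hS (squaresCentral G S hS)
  haveI := hchar
  haveI hsimp : IsSimpleGroup (CfsgLib.Dickson.PSL2 F) :=
    CfsgLib.Linear.PSLTwo.isSimple (by rwa [Nat.card_eq_fintype_card])
  have hns : ¬ Group.IsSolvable (CfsgLib.Dickson.PSL2 F) :=
    CfsgLib.Linear.PSLTwo.not_solvable (by rwa [Nat.card_eq_fintype_card])
  let f : G →* CfsgLib.Dickson.PSL2 F := e.toMonoidHom.comp (QuotientGroup.mk' (center G))
  have hfs : Function.Surjective f := e.surjective.comp (QuotientGroup.mk'_surjective _)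
  have hker : ∀ g : G, f g = 1 ↔ g ∈ center G := fun g => by
    show e (QuotientGroup.mk' (center G) g) = 1 ↔ _
    rw [← map_one e, e.injective.eq_iff]
    exact QuotientGroup.eq_one_iff g
  have hmap := map_commutator_eq_top f hfs hns
  -- the derived subgroup meets the centre trivially
  have hbot : ∀ x ∈ commutator G, x ∈ center G → x = 1 := by
    intro x hx' hxc
    by_contra hx1
    obtain ⟨p, hp, hpd⟩ := Nat.exists_prime_and_dvd (n := orderOf x) fun h => hx1 (orderOf_eq_one_iff.1 h)
    haveI := Fact.mk hp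
    set y := x ^ (orderOf x / p)
    have hy : orderOf y = p := orderOf_pow_orderOf_div (orderOf_pos x).ne' hpd
    have hyc : y ∈ center G := pow_mem hxc _
    have hp2 : p ≠ 2 := fun h => Nat.not_even_iff_odd.2 (odd_center hS)
      (even_iff_two_dvd.2 (h ▸ hy ▸ orderOf_dvd_natCard _ hyc))
    obtain ⟨P, hP⟩ := (IsPGroup.of_card (n := 1) (by rw [Nat.card_zpowers, hy, pow_one]) :
      IsPGroup p (zpowers y)).exists_le_sylow
    have hodd : Odd (Nat.card ((P : Subgroup G).map f)) := by
      obtain ⟨k, hk⟩ := IsPGroup.iff_card.1 P.2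
      exact Odd.of_dvd_nat (hk ▸ (hp.odd_of_ne_two hp2).pow) (Subgroup.card_dvd_of_surjective
        (f.subgroupMap (P : Subgroup G)) (MonoidHom.subgroupMap_surjective _ _))
    have hne : (P : Subgroup G).map f ≠ ⊤ := fun h => by
      rw [h, Subgroup.card_top] at hodd
      obtain ⟨z, -, hz2, -⟩ := central_invol (hyp_quotient hS)
      exact Nat.not_even_iff_odd.2 hodd (even_iff_two_dvd.2
        (Nat.card_congr e.toEquiv ▸ hz2 ▸ orderOf_dvd_natCard z))
    haveI := isCyclic_of_odd _ hne hodd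
    have hcomm : IsMulCommutative (P : Subgroup G) := ⟨⟨commutative_of_cyclic_center_quotient
      (f.subgroupMap (P : Subgroup G)) (fun a ha => mem_center_iff.2 fun b => Subtype.ext
        (mem_center_iff.1 ((hker (a : G)).1 (congrArg Subtype.val ha)) (b : G)))⟩⟩
    have h1 := eq_one_of_transfer P hcomm (hP (mem_zpowers y)) hyc (pow_mem hx' _)
    rw [h1, orderOf_one] at hy
    exact hp.ne_one hy.symm
  -- the splitting
  let μ : commutator G × center G →* G := MonoidHom.mk' (fun a => (a.1 : G) * (a.2 : G)) fun a b => by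
    simp only [Prod.fst_mul, Prod.snd_mul, Subgroup.coe_mul]
    rw [mul_assoc, mul_assoc]
    congr 1
    rw [← mul_assoc, mem_center_iff.1 (a.2.2) (b.1 : G), mul_assoc]
  have hμ : Function.Bijective μ := by
    refine ⟨(injective_iff_map_eq_one μ).2 fun a ha => ?_, fun g => ?_⟩
    · have e1 : (a.1 : G) = (a.2 : G)⁻¹ := eq_inv_of_mul_eq_one_left ha
      have h1 : (a.1 : G) = 1 := hbot _ a.1.2 (e1 ▸ inv_mem a.2.2)
      have h2 : (a.2 : G) = 1 := by rwa [h1, eq_comm, inv_eq_one] at e1
      exact Prod.ext (Subtype.ext h1) (Subtype.ext h2)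
    · obtain ⟨k, hk, hkg⟩ := (hmap.symm ▸ mem_top (f g) : f g ∈ (commutator G).map f)
      refine ⟨(⟨k, hk⟩, ⟨k⁻¹ * g, (hker _).1 ?_⟩), mul_inv_cancel_left k g⟩
      rw [map_mul, map_inv, hkg, inv_mul_cancel]
  let φ : commutator G →* CfsgLib.Dickson.PSL2 F := f.comp (commutator G).subtype
  have hφ : Function.Bijective φ := by
    refine ⟨(injective_iff_map_eq_one φ).2 fun a ha => Subtype.ext (hbot _ a.2 ((hker _).1 ha)), fun l => ?_⟩
    obtain ⟨k, hk, hkl⟩ := (hmap.symm ▸ mem_top l : l ∈ (commutator G).map f)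
    exact ⟨⟨k, hk⟩, hkl⟩
  let ψ : Matrix.SpecialLinearGroup (Fin 2) F ≃* CfsgLib.Dickson.PSL2 F :=
    MulEquiv.ofBijective (CfsgLib.SL2C.pm) ⟨CfsgLib.SL2C.pm_injective, CfsgLib.SL2C.pm_surjective⟩
  letI : CommGroup (center G) :=
    { (inferInstance : Group (center G)) with
      mul_comm := fun a b => Subtype.ext (mem_center_iff.1 b.2 (a : G)) }
  refine ⟨F, iF, iFt, Shrink.{0} (center G), inferInstance, Finite.of_equiv _ (equivShrink _), hchar, ?_, ⟨?_⟩⟩
  · rw [Nat.card_congr (equivShrink.{0} (center G)).symm]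
    exact odd_center hS
  · exact (MulEquiv.ofBijective μ hμ).symm.trans
      (MulEquiv.prodCongr ((MulEquiv.ofBijective φ hφ).trans ψ.symm) Shrink.mulEquiv.symm)

end CfsgLib.AbelianInvCent
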