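import Cfsg.Agent.AbelianInvCent.TICase
import Cfsg.Agent.S1230
import Cfsg.Agent.Classical.PSLTwoSub

/-!
# Abelian involution centralisers: squares of centralising elements are central
-/

set_option autoImplicit false
set_option maxHeartbeats 400000

namespace CfsgLib.AbelianInvCent

open Subgroup

universe u

variable {G : Type u} [Group G]

/-- Squares of elements centralising an involution are central. -/
def SquaresCentral (G : Type u) [Group G] : Prop :=
  ∀ t c : G, orderOf t = 2 → Commute c t → c ^ 2 ∈ center G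

variable [Finite G] {S : Sylow 2 G} (hS : Hyp S)

include hS in
theorem eq_one_of_sq_center {z : G} (hz : z ∈ center G) (h : z ^ 2 = 1) : z = 1 :=
  orderOf_eq_one_iff.1 (Nat.eq_one_of_dvd_coprimes (Nat.coprime_two_left.2 (odd_center hS))
    (orderOf_dvd_of_pow_eq_one h) (orderOf_dvd_natCard _ hz))

include hS in
theorem commute_of_quot {g t : G} (ht : orderOf t = 2)
    (h : Commute (QuotientGroup.mk' (center G) g) (QuotientGroup.mk' (center G) t)) : Commute g t := by
  have htt : t ^ 2 = 1 := ht ▸ pow_orderOf_eq_one t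
  have hz : g * t * g⁻¹ * t⁻¹ ∈ center G := by
    rw [← QuotientGroup.eq_one_iff, ← QuotientGroup.mk'_apply]
    simp only [map_mul, map_inv]
    rw [h.eq]; group
  set z := g * t * g⁻¹ * t⁻¹
  have e : g * t * g⁻¹ = z * t := by simp only [z, inv_mul_cancel_right]
  have hz2 : z ^ 2 = 1 := by
    have h1 : (z * t) ^ 2 = 1 := by rw [← e, conj_pow, htt, mul_one, mul_inv_cancel]
    rwa [(show Commute z t from (mem_center_iff.1 hz t).symm).mul_pow, htt, mul_one] at h1
  rw [eq_one_of_sq_center hS hz hz2, one_mul] at e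
  exact mul_inv_eq_iff_eq_mul.1 e

include hS in
theorem lift_invol {x : G ⧸ center G} (hx : orderOf x = 2) :
    ∃ t : G, orderOf t = 2 ∧ QuotientGroup.mk' (center G) t = x := by
  obtain ⟨g, rfl⟩ := QuotientGroup.mk'_surjective (center G) x
  obtain ⟨j, hj⟩ := odd_center hS
  refine ⟨g ^ Nat.card (center G), ?_, ?_⟩
  · have h2 : g ^ 2 ∈ center G := by
      rw [← QuotientGroup.eq_one_iff, ← QuotientGroup.mk'_apply, map_pow, ← hx, pow_orderOf_eq_one]
    refine orderOf_eq_prime (hp := ⟨Nat.prime_two⟩) ?_ fun h => ?_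
    · rw [← pow_mul, mul_comm, pow_mul]
      exact congrArg Subtype.val (pow_card_eq_one' (G := center G) (x := ⟨g ^ 2, h2⟩))
    · have := congrArg (QuotientGroup.mk' (center G)) h
      rw [map_pow, map_one, hj, pow_succ, pow_mul, show QuotientGroup.mk' (center G) g ^ 2 = 1 from
        hx ▸ pow_orderOf_eq_one _, one_pow, one_mul] at this
      rw [this, orderOf_one] at hx
      omega
  · rw [map_pow, hj, pow_succ, pow_mul, show QuotientGroup.mk' (center G) g ^ 2 = 1 from
      hx ▸ pow_orderOf_eq_one _, one_pow, one_mul]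

include hS in
theorem hyp_quotient : Hyp (S.mapSurjective (QuotientGroup.mk'_surjective (center G))) := by
  set π := QuotientGroup.mk' (center G)
  have hinj : ∀ s ∈ (S : Subgroup G), s ∈ center G → s = 1 := fun s hs hsz => by
    haveI : Fact (Nat.Prime 2) := ⟨Nat.prime_two⟩
    obtain ⟨k, hk⟩ := IsPGroup.iff_card.1 S.2
    exact orderOf_eq_one_iff.1 (Nat.eq_one_of_dvd_coprimes ((Nat.coprime_two_left.2 (odd_center hS)).pow_left k)
      (hk ▸ orderOf_dvd_natCard _ hs) (orderOf_dvd_natCard _ hsz))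
  refine ⟨fun hc => hS.notCyclic ?_, fun hn => hS.notNormal ⟨fun s hs g => ?_⟩, fun x hx => ?_⟩
  · haveI : IsCyclic ((S : Subgroup G).map π) := by rwa [Sylow.coe_mapSurjective] at hc
    refine isCyclic_of_injective (π.subgroupMap (S : Subgroup G)) fun a b h => Subtype.ext ?_
    have h' : π a = π b := congrArg Subtype.val h
    refine inv_mul_eq_one.1 (hinj _ (mul_mem (inv_mem a.2) b.2) ?_)
    rw [← QuotientGroup.eq_one_iff, ← QuotientGroup.mk'_apply, map_mul, map_inv, h', inv_mul_cancel]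
  · rw [Sylow.coe_mapSurjective] at hn
    obtain ⟨s', hs', e⟩ := hn.conj_mem _ (mem_map_of_mem π hs) (π g)
    have hz : s'⁻¹ * (g * s * g⁻¹) ∈ center G := by
      rw [← QuotientGroup.eq_one_iff, ← QuotientGroup.mk'_apply, map_mul, map_inv, e]
      simp only [map_mul, map_inv, π]
      group
    set z := s'⁻¹ * (g * s * g⁻¹)
    have e' : g * s * g⁻¹ = s' * z := by simp only [z, mul_inv_cancel_left]
    have h1 : (g * s * g⁻¹) ^ Nat.card (S : Subgroup G) = 1 := by
      rw [conj_pow, orderOf_dvd_iff_pow_eq_one.1 (orderOf_dvd_natCard _ hs), mul_one, mul_inv_cancel]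
    rw [e', (show Commute s' z from mem_center_iff.1 hz s').mul_pow,
      orderOf_dvd_iff_pow_eq_one.1 (orderOf_dvd_natCard _ hs'), one_mul] at h1
    haveI : Fact (Nat.Prime 2) := ⟨Nat.prime_two⟩
    obtain ⟨k, hk⟩ := IsPGroup.iff_card.1 S.2
    have hz1 : z = 1 := orderOf_eq_one_iff.1 (Nat.eq_one_of_dvd_coprimes
      ((Nat.coprime_two_left.2 (odd_center hS)).pow_left k) (hk ▸ orderOf_dvd_of_pow_eq_one h1)
      (orderOf_dvd_natCard _ hz))
    rw [e', hz1, mul_one]
    exact hs'
  · obtain ⟨t, ht, rfl⟩ := lift_invol hS hx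
    refine ⟨⟨fun a b => Subtype.ext ?_⟩⟩
    obtain ⟨a', ha'⟩ := QuotientGroup.mk'_surjective (center G) (a : G ⧸ center G)
    obtain ⟨b', hb'⟩ := QuotientGroup.mk'_surjective (center G) (b : G ⧸ center G)
    have h1 : Commute a' t := commute_of_quot hS ht (ha'.symm ▸ mem_centralizer_singleton_iff.1 a.2)
    have h2 : Commute b' t := commute_of_quot hS ht (hb'.symm ▸ mem_centralizer_singleton_iff.1 b.2)
    push_cast
    rw [← ha', ← hb', ← map_mul, ← map_mul, (commute_cent hS ht h1 h2).eq]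

include hS in
/-- Modulo the centre, a group with central squares is a two-dimensional projective linear group. -/
theorem exists_psl (hP : SquaresCentral G) :
    ∃ (F : Type) (_ : Field F) (_ : Fintype F),
      Fintype.card F = Nat.card (S.mapSurjective (QuotientGroup.mk'_surjective (center G))) ∧
      4 ≤ Fintype.card F ∧ CharP F 2 ∧
      Nonempty (G ⧸ center G ≃* Matrix.ProjectiveSpecialLinearGroup (Fin 2) F) := by
  have hQ := hyp_quotient hS
  set T := S.mapSurjective (QuotientGroup.mk'_surjective (center G))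
  have hC : ∀ x : G ⧸ center G, orderOf x = 2 → IsMulCommutative (centralizer ({x} : Set (G ⧸ center G))) ∧
      ∀ c ∈ centralizer ({x} : Set (G ⧸ center G)), c ^ 2 = 1 := fun x hx => ⟨hQ.cent x hx, fun c hc => by
    obtain ⟨t, ht, rfl⟩ := lift_invol hS hx
    obtain ⟨c', rfl⟩ := QuotientGroup.mk'_surjective (center G) c
    have h := hP t c' ht (commute_of_quot hS ht (mem_centralizer_singleton_iff.1 hc))
    rw [← map_pow]
    exact (QuotientGroup.eq_one_iff _).2 h⟩
  obtain ⟨F, iF, iFt, hFc, e⟩ := Cfsg.Agent.S1230.result T hQ.notCyclic hQ.notNormal hC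
  have h4 : 4 ≤ Fintype.card F := hFc ▸ CfsgLib.EACent.four_le_card (T := T) ⟨hQ.notCyclic, hQ.notNormal, hC⟩
  refine ⟨F, iF, iFt, hFc, h4, ?_, e⟩
  haveI : Fact (Nat.Prime 2) := ⟨Nat.prime_two⟩
  obtain ⟨k, hk⟩ := IsPGroup.iff_card.1 T.2
  obtain ⟨p, hp⟩ := CharP.exists F
  obtain ⟨n, hpp, hn⟩ := FiniteField.card F p
  have hp2 : p = 2 := (Nat.prime_dvd_prime_iff_eq hpp Nat.prime_two).1
    (hpp.dvd_of_dvd_pow (hk ▸ hFc ▸ hn ▸ dvd_pow_self p n.ne_zero))
  exact hp2 ▸ hp

include hS in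
/-- An overgroup of the Sylow subgroup outside its normaliser inherits the hypotheses. -/
theorem hyp_subgroup {M : Subgroup G} (hle : (S : Subgroup G) ≤ M)
    (hM : ¬ M ≤ normalizer ((S : Subgroup G) : Set G)) : Hyp (S.subtype hle) := by
  refine ⟨fun hc => hS.notCyclic ?_, fun hn => hM fun m hm => ?_, fun t ht => ⟨⟨fun a b => ?_⟩⟩⟩
  · rw [Sylow.coe_subtype] at hc
    exact (subgroupOfEquivOfLe hle).isCyclic.1 hc
  · rw [Sylow.coe_subtype] at hn
    refine mem_normalizer_of_map_le hS fun x hx => le_normalizer ?_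
    exact mem_subgroupOf.1 (hn.conj_mem ⟨x, hle hx⟩ (mem_subgroupOf.2 hx) ⟨m, hm⟩)
  · refine Subtype.ext (Subtype.ext ?_)
    have h1 : ∀ c : centralizer ({t} : Set M), Commute (((c : M) : G)) (t : G) := fun c =>
      congrArg Subtype.val (mem_centralizer_singleton_iff.1 c.2)
    exact (commute_cent hS (by rwa [Subgroup.orderOf_coe]) (h1 a) (h1 b)).eq

include hS in
theorem squaresCentral_of_center
    (ih : SquaresCentral (G ⧸ center G)) : SquaresCentral G := by
  intro t c ht hc
  refine mem_center_of_commute hS ht (hc.pow_left 2) fun v hv => commute_of_quot hS hv ?_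
  have ht' : orderOf (QuotientGroup.mk' (center G) t) = 2 := by
    refine orderOf_eq_prime (hp := ⟨Nat.prime_two⟩) ?_ fun h => ?_
    · rw [← map_pow, ← ht, pow_orderOf_eq_one, map_one]
    · have h1 : t = 1 := eq_one_of_sq_center hS ((QuotientGroup.eq_one_iff _).1 h) (ht ▸ pow_orderOf_eq_one t)
      rw [h1, orderOf_one] at ht
      omega
  have h := ih _ _ ht' (hc.map (QuotientGroup.mk' (center G)))
  rw [map_pow]
  exact (mem_center_iff.1 h _).symm

/-- A strongly embedded subgroup cannot be linear of degree two over its centre in this way. -/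
theorem false_of_psl {M : Subgroup G} (hSE : Cfsg.IsStronglyEmbedded M) {T0 : Sylow 2 M} (hMH : Hyp T0)
    (hPM : SquaresCentral M) : False := by
  -- an odd subgroup of `M` transitive on the involutions of `M`
  obtain ⟨g, -, hg⟩ := SetLike.exists_of_lt (lt_top_iff_ne_top.2 hSE.1)
  obtain ⟨u, hu, hug⟩ := StrongEmbed.exists_swap hSE (x := (QuotientGroup.mk 1 : G ⧸ M))
    (y := QuotientGroup.mk g)
    fun h => hg (StrongEmbed.smul_mk_one_iff.1 (StrongEmbed.smul_mk_one_eq.trans h.symm))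
  have huM : u ∉ M := fun h => hg (StrongEmbed.smul_mk_one_iff.1
    (StrongEmbed.smul_mk_one_eq.trans (hug.symm.trans (StrongEmbed.smul_mk_one_iff.2 h))))
  obtain ⟨F, iF, iFt, hFc, h4, -, ⟨e⟩⟩ := exists_psl hMH hPM
  set T := (T0).mapSurjective (QuotientGroup.mk'_surjective (center M))
  set D' : Subgroup (M ⧸ center M) :=
    ((M ⊓ M.map (MulAut.conj u).toMonoidHom).subgroupOf M).map (QuotientGroup.mk' (center M))
  have hDodd : Odd (Nat.card D') := by
    have h1 : Odd (Nat.card ↥((M ⊓ M.map (MulAut.conj u).toMonoidHom).subgroupOf M)) := by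
      rw [Nat.card_congr (subgroupOfEquivOfLe
        (inf_le_left : M ⊓ M.map (MulAut.conj u).toMonoidHom ≤ M)).toEquiv]
      exact hSE.2.2 u huM
    exact Odd.of_dvd_nat h1 (Subgroup.card_dvd_of_surjective
      ((QuotientGroup.mk' (center M)).subgroupMap ((M ⊓ M.map (MulAut.conj u).toMonoidHom).subgroupOf M))
      (MonoidHom.subgroupMap_surjective _ _))
  obtain ⟨z', hz', hz'2, -⟩ := central_invol (hyp_quotient hMH)
  have hcov : Nat.card (M ⧸ center M) ≤
      Nat.card D' * Nat.card (centralizer ({z'} : Set (M ⧸ center M))) := by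
    rw [← Nat.card_prod]
    refine Nat.card_le_card_of_surjective
      (fun p : D' × centralizer ({z'} : Set (M ⧸ center M)) => (p.1 : M ⧸ center M) * p.2) fun l => ?_
    obtain ⟨t, ht, htz⟩ := lift_invol hMH hz'2
    obtain ⟨l', rfl⟩ := QuotientGroup.mk'_surjective (center M) l
    obtain ⟨d, hd, hde⟩ := StrongEmbed.exists_conj_in_stabilizer hSE hu huM (s := (t : G))
      (t := ((l' * t * l'⁻¹ : M) : G)) (by rwa [Subgroup.orderOf_coe]) t.2
      (by rw [Subgroup.orderOf_coe, CfsgLib.Invol.orderOf_conj_eq, ht]) (l' * t * l'⁻¹).2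
    set dM : M := ⟨d, hd.1⟩
    have hde' : dM * t * dM⁻¹ = l' * t * l'⁻¹ := Subtype.ext hde
    refine ⟨⟨⟨_, mem_map_of_mem _ (mem_subgroupOf.2 (show (dM : G) ∈ _ from hd))⟩,
      ⟨QuotientGroup.mk' _ (dM⁻¹ * l'), mem_centralizer_singleton_iff.2 ?_⟩⟩, ?_⟩
    · rw [← htz, ← map_mul, ← map_mul]
      congr 1
      calc dM⁻¹ * l' * t = dM⁻¹ * (l' * t * l'⁻¹) * l' := by group
        _ = dM⁻¹ * (dM * t * dM⁻¹) * l' := by rw [hde']
        _ = t * (dM⁻¹ * l') := by group
    · show QuotientGroup.mk' _ dM * QuotientGroup.mk' _ (dM⁻¹ * l') = _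
      rw [← map_mul, mul_inv_cancel_left]
  have hCle : Nat.card (centralizer ({z'} : Set (M ⧸ center M))) ≤ Fintype.card F := by
    rw [hFc]
    have hp : IsPGroup 2 (centralizer ({z'} : Set (M ⧸ center M))) := fun c => ⟨1, Subtype.ext (by
      obtain ⟨t, ht, htz⟩ := lift_invol hMH hz'2
      obtain ⟨c', hc'⟩ := QuotientGroup.mk'_surjective (center M) (c : M ⧸ center M)
      have h := hPM t c' ht (commute_of_quot hMH ht (by
        rw [hc', htz]; exact mem_centralizer_singleton_iff.1 c.2))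
      rw [pow_one]
      push_cast
      rw [← hc', ← map_pow]
      exact (QuotientGroup.eq_one_iff _).2 h)⟩
    haveI : Fact (Nat.Prime 2) := ⟨Nat.prime_two⟩
    obtain ⟨Q, hQ⟩ := hp.exists_le_sylow
    exact (card_le_of_le hQ).trans (le_of_eq (Nat.card_congr (Sylow.equiv Q T).toEquiv))
  have hq : Nat.card F ∉ ({2, 3, 5, 7, 9, 11} : Finset ℕ) := by
    haveI : Fact (Nat.Prime 2) := ⟨Nat.prime_two⟩
    obtain ⟨k, hk⟩ := IsPGroup.iff_card.1 T.2
    rw [Nat.card_eq_fintype_card]
    rcases k with _ | k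
    · simp only [pow_zero] at hk; omega
    · rw [hFc, hk, pow_succ]
      rw [hFc, hk, pow_succ] at h4
      simp only [Finset.mem_insert, Finset.mem_singleton]
      omega
  have hne : D'.map e.toMonoidHom ≠ ⊤ := fun h => by
    have h1 : Nat.card D' = Nat.card (M ⧸ center M) := by
      rw [← card_map_of_injective (K := D') (f := e.toMonoidHom) e.injective, h, Subgroup.card_top]
      exact Nat.card_congr e.symm.toEquiv
    exact Nat.not_even_iff_odd.2 (h1 ▸ hDodd)
      (even_iff_two_dvd.2 (hz'2 ▸ orderOf_dvd_natCard z'))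
  have hi := CfsgLib.Linear.PSLTwo.index_ge hq _ hne
  have hmul := (D'.map e.toMonoidHom).card_mul_index
  rw [card_map_of_injective (K := D') (f := e.toMonoidHom) e.injective, ← Nat.card_congr e.toEquiv] at hmul
  rw [Nat.card_eq_fintype_card] at hi
  have := Nat.mul_le_mul_left (Nat.card D') (hCle.trans (Nat.le_succ _))
  have hpos : 0 < Nat.card D' := Nat.card_pos
  have h6 : Nat.card D' * (D'.map e.toMonoidHom).index ≤ Nat.card D' * Fintype.card F :=
    hmul.le.trans (hcov.trans (Nat.mul_le_mul_left _ hCle))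
  have := Nat.le_of_mul_le_mul_left h6 hpos
  omega

include hS in
theorem false_of_not_TI (hZ : center G = ⊥)
    (ih : ∀ M : Subgroup G, M ≠ ⊤ → ∀ T : Sylow 2 M, Hyp T → SquaresCentral M)
    {x : G} (hx : x ∈ centralizer ((S : Subgroup G) : Set G)) (hx1 : x ≠ 1)
    (hnTI : ¬ centralizer ({x} : Set G) ≤ normalizer ((S : Subgroup G) : Set G)) : False := by
  set C := centralizer ((S : Subgroup G) : Set G)
  obtain ⟨z, hz, hz2, -⟩ := central_invol hS
  set M0 := centralizer ({x} : Set G)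
  have hCM0 : C ≤ M0 := fun a ha => mem_centralizer_singleton_iff.2 (C_comm hS ha hx).eq
  have hSM0 : (S : Subgroup G) ≤ M0 := (S_le_C hS).trans hCM0
  have hM0 : M0 ≠ ⊤ := fun h => hx1 (by
    have : x ∈ center G := mem_center_iff.2 fun g => mem_centralizer_singleton_iff.1 (show g ∈ M0 by rw [h]; trivial)
    rwa [hZ, mem_bot] at this)
  set B := closure {y : G | ∃ c ∈ C, c ^ 2 = y} with hB
  have hBM0 : ∀ m ∈ M0, ∀ b ∈ B, Commute m b := by
    intro m hm b hb
    have hle : B ≤ centralizer ({m} : Set G) := (closure_le _).2 (by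
      rintro _ ⟨c, hc, rfl⟩
      have h := ih M0 hM0 (S.subtype hSM0) (hyp_subgroup hS hSM0 hnTI) ⟨z, hSM0 hz⟩ ⟨c, hCM0 hc⟩
        (by rw [← Subgroup.orderOf_coe]; exact hz2) (Subtype.ext ((mem_cent_iff hS hz hz2).1 hc).eq)
      exact mem_centralizer_singleton_iff.2 (congrArg Subtype.val (mem_center_iff.1 h ⟨m, hm⟩)).symm)
    exact (mem_centralizer_singleton_iff.1 (hle hb)).symm
  have hBC : B ≤ C := (closure_le _).2 (by rintro _ ⟨c, hc, rfl⟩; exact pow_mem hc 2)
  have hgen : ∀ {g : G}, (∀ c ∈ C, g * c ^ 2 * g⁻¹ ∈ B) → g ∈ normalizer (B : Set G) := by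
    intro g hg
    refine mem_normalizer_iff_map_conj_eq.2 (Subgroup.eq_of_le_of_card_ge ?_
      (card_map_of_injective (f := (MulAut.conj g).toMonoidHom) (MulAut.conj g).injective).ge)
    rw [hB, MonoidHom.map_closure, closure_le]
    rintro _ ⟨_, ⟨c, hc, rfl⟩, rfl⟩
    exact hg c hc
  set M := normalizer (B : Set G)
  have hHM : normalizer ((S : Subgroup G) : Set G) ≤ M := fun g hg => hgen fun c hc =>
    subset_closure ⟨g * c * g⁻¹, C_conj hg hc, by rw [conj_pow]⟩
  have hM0M : M0 ≤ M := fun g hg => hgen fun c hc => by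
    rw [(hBM0 g hg _ (subset_closure ⟨c, hc, rfl⟩)).eq, mul_inv_cancel_right]
    exact subset_closure ⟨c, hc, rfl⟩
  obtain ⟨c₀, hc₀, hc₀1⟩ : ∃ c ∈ C, c ^ 2 ≠ 1 := by
    by_contra hno
    push Not at hno
    refine hnTI fun g hg => C_le_H ?_
    have hx2 : orderOf x = 2 := orderOf_eq_prime (hp := ⟨Nat.prime_two⟩) (hno x hx) hx1
    exact commute_C_invol hS (C_le_H hx) hx2 (mem_centralizer_singleton_iff.1 hg)
  have hMtop : M ≠ ⊤ := by
    intro h
    haveI : B.Normal := normalizer_eq_top_iff.1 h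
    refine hc₀1 ?_
    have hmem : c₀ ^ 2 ∈ center G := by
      refine mem_center_of_commute hS hz2 (((mem_cent_iff hS hz hz2).1 hc₀).pow_left 2) fun v hv => ?_
      obtain ⟨g, rfl⟩ := isConj_iff.1 (StrongEmbed.isConj_of_invols (stronglyEmbedded hS) hz2 hv)
      have hmemB : c₀ ^ 2 ∈ B := subset_closure ⟨c₀, hc₀, rfl⟩
      have hb : g⁻¹ * c₀ ^ 2 * g⁻¹⁻¹ ∈ B := Normal.conj_mem inferInstance _ hmemB g⁻¹
      rw [inv_inv] at hb
      have h' := ((mem_cent_iff hS hz hz2).1 (hBC hb)).map (MulAut.conj g).toMonoidHom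
      simp only [MulEquiv.coe_toMonoidHom, MulAut.conj_apply] at h'
      rwa [show g * (g⁻¹ * c₀ ^ 2 * g) * g⁻¹ = c₀ ^ 2 by group] at h'
    rwa [hZ, mem_bot] at hmem
  have hSM : (S : Subgroup G) ≤ M := le_normalizer.trans hHM
  have hMH := hyp_subgroup hS hSM fun h => hnTI (hM0M.trans h)
  have hPM := ih M hMtop (S.subtype hSM) hMH
  have hconjM : ∀ {t : G}, t ∈ M → orderOf t = 2 → ∃ g ∈ M, g * z * g⁻¹ = t := by
    intro t ht ht2
    obtain ⟨g, hg⟩ := isConj_iff.1 (StrongEmbed.isConj_of_invols (stronglyEmbedded hMH)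
      (a := (⟨z, hSM hz⟩ : M)) (b := ⟨t, ht⟩) (by rw [← Subgroup.orderOf_coe]; exact hz2)
      (by rw [← Subgroup.orderOf_coe]; exact ht2))
    exact ⟨g, g.2, congrArg Subtype.val hg⟩
  have hsq : ∀ {t c : G}, t ∈ M → orderOf t = 2 → Commute c t → c ∈ M ∧ c ^ 2 ∈ B := by
    intro t c ht ht2 hc
    obtain ⟨g, hg, rfl⟩ := hconjM ht ht2
    have ha : g⁻¹ * c * g ∈ C := by
      refine (mem_cent_iff hS hz hz2).2 ?_
      have h := hc.map (MulAut.conj g⁻¹).toMonoidHom
      simp only [MulEquiv.coe_toMonoidHom, MulAut.conj_apply, inv_inv] at h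
      rwa [show g⁻¹ * (g * z * g⁻¹) * g = z by group] at h
    have e : c = g * (g⁻¹ * c * g) * g⁻¹ := by group
    rw [e]
    refine ⟨mul_mem (mul_mem hg (hHM (C_le_H ha))) (inv_mem hg), ?_⟩
    rw [conj_pow]
    exact (mem_normalizer_iff.1 hg _).1 (subset_closure ⟨_, ha, rfl⟩)
  have hSE : Cfsg.IsStronglyEmbedded M := by
    haveI : Fact (Nat.Prime 2) := ⟨Nat.prime_two⟩
    refine ⟨hMtop, even_iff_two_dvd.2 (hz2.symm.dvd.trans (orderOf_dvd_natCard _ (hSM hz))),
      fun g hg => Nat.not_even_iff_odd.1 fun hev => hg ?_⟩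
    obtain ⟨w, ho⟩ := exists_prime_orderOf_dvd_card' 2 (even_iff_two_dvd.1 hev)
    rw [← orderOf_coe] at ho
    obtain ⟨v, hv, hvs⟩ := w.2.2
    have hgv : g * v * g⁻¹ = (w : G) := hvs
    have hv2 : orderOf v = 2 := by rw [← ho, ← hgv, CfsgLib.Invol.orderOf_conj_eq]
    obtain ⟨h, hh, hhv⟩ := hconjM hv hv2
    have hgh : g * h ∈ M := hgen fun c hc => by
      rw [show g * h * c ^ 2 * (g * h)⁻¹ = (g * h * c * (g * h)⁻¹) ^ 2 from conj_pow.symm]
      refine (hsq w.2.1 ho ?_).2
      rw [← hgv, ← hhv, show g * (h * z * h⁻¹) * g⁻¹ = g * h * z * (g * h)⁻¹ by group]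
      exact ((mem_cent_iff hS hz hz2).1 hc).map (MulAut.conj (g * h)).toMonoidHom
    simpa using mul_mem hgh (inv_mem hh)
  exact false_of_psl hSE hMH hPM

theorem squaresCentral : ∀ (G : Type u) [Group G] [Finite G] (S : Sylow 2 G), Hyp S → SquaresCentral G := by
  suffices H : ∀ n, ∀ (G : Type u) [Group G] [Finite G] (S : Sylow 2 G), Nat.card G = n → Hyp S → SquaresCentral G by
    exact fun G _ _ S hS => H _ G S rfl hS
  intro n
  induction n using Nat.strong_induction_on with
  | _ n ih =>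
    intro G _ _ S hn hS
    by_cases hZ : center G = ⊥
    · have hTI : IsTI S := fun x hx hx1 => by
        by_contra hnTI
        refine false_of_not_TI hS hZ (fun M hM T hT => ih _ ?_ M T rfl hT) hx hx1 hnTI
        rw [← hn]
        exact (card_le_card_group M).lt_of_ne fun h => hM (M.eq_top_of_card_eq h)
      intro t c ht hc
      rw [sq_eq_one hS hTI ht hc]
      exact one_mem _
    · refine squaresCentral_of_center hS (ih _ ?_ _ _ rfl (hyp_quotient hS))
      rw [← hn, ← Subgroup.index_eq_card]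
      haveI := (nontrivial_iff_ne_bot (center G)).2 hZ
      calc (center G).index < Nat.card (center G) * (center G).index :=
            lt_mul_left (Nat.pos_of_ne_zero index_ne_zero_of_finite) Finite.one_lt_card
        _ = Nat.card G := card_mul_index _

end CfsgLib.AbelianInvCent
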