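import Cfsg.Agent.Invol.StrongEmbedded
import Mathlib.GroupTheory.SpecificGroups.Cyclic

/-!
# Groups with abelian involution centralisers: setup
-/

set_option autoImplicit false

namespace CfsgLib.AbelianInvCent

open Subgroup

variable {G : Type*} [Group G]

/-- The subgroup generated by the involutions. -/
def invClosure (G : Type*) [Group G] : Subgroup G := closure {x : G | orderOf x = 2}

theorem mem_invClosure {x : G} (h : orderOf x = 2) : x ∈ invClosure G := subset_closure h

variable [Finite G]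

/-- Centralisers of involutions are abelian; a Sylow 2-subgroup is neither cyclic nor normal. -/
structure Hyp (S : Sylow 2 G) : Prop where
  /-- not cyclic -/
  notCyclic : ¬ IsCyclic (S : Subgroup G)
  /-- not normal -/
  notNormal : ¬ (S : Subgroup G).Normal
  /-- the centralisers -/
  cent : ∀ t : G, orderOf t = 2 → IsMulCommutative (centralizer ({t} : Set G))

theorem isCyclic_of_sq {A : Type*} [CommGroup A] [Finite A] (hA : IsPGroup 2 A)
    (h : ∀ x y : A, x ^ 2 = 1 → y ^ 2 = 1 → x ≠ 1 → y ≠ 1 → x = y) : IsCyclic A := by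
  classical
  letI := Fintype.ofFinite A
  haveI : Fact (Nat.Prime 2) := ⟨Nat.prime_two⟩
  obtain ⟨k, hk⟩ := IsPGroup.iff_card.1 hA
  have hb : ∀ i, Nat.card {x : A // x ^ (2 ^ i) = 1} ≤ 2 ^ i := by
    intro i
    induction i with
    | zero =>
      simp only [pow_zero, pow_one]
      haveI : Unique {x : A // x = 1} := ⟨⟨⟨1, rfl⟩⟩, fun x => Subtype.ext x.2⟩
      exact le_of_eq Nat.card_unique
    | succ i ih =>
      set f : {x : A // x ^ (2 ^ (i + 1)) = 1} → {x : A // x ^ (2 ^ i) = 1} := fun x =>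
        ⟨x.1 ^ 2, by rw [← pow_mul, ← pow_succ']; exact x.2⟩ with hf
      letI := Fintype.ofFinite {x : A // x ^ (2 ^ (i + 1)) = 1}
      letI := Fintype.ofFinite {x : A // x ^ (2 ^ i) = 1}
      have hle : Fintype.card {x : A // x ^ (2 ^ (i + 1)) = 1} ≤ 2 * Fintype.card {x : A // x ^ (2 ^ i) = 1} := by
        refine Finset.card_le_mul_card_image_of_maps_to (f := f) (fun a _ => Finset.mem_univ (f a)) 2 fun b _ => ?_
        by_contra hlt
        push Not at hlt
        obtain ⟨x, hx, y, hy, z, hz, hxy, hxz, hyz⟩ := Finset.two_lt_card.1 hlt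
        simp only [Finset.mem_filter, Finset.mem_univ, true_and] at hx hy hz
        have e : ∀ {p r : {x : A // x ^ (2 ^ (i + 1)) = 1}}, f p = b → f r = b → p ≠ r →
            (p.1 * r.1⁻¹) ^ 2 = 1 ∧ p.1 * r.1⁻¹ ≠ 1 := by
          intro p r hp hr hne
          refine ⟨?_, fun e => hne (Subtype.ext (mul_inv_eq_one.1 e))⟩
          have : p.1 ^ 2 = r.1 ^ 2 := congrArg Subtype.val (hp.trans hr.symm)
          rw [mul_pow, inv_pow, this, mul_inv_cancel]
        have h1 := e hy hx hxy.symm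
        have h2 := e hz hx hxz.symm
        exact hyz (Subtype.ext (mul_right_cancel (h _ _ h1.1 h2.1 h1.2 h2.2)))
      rw [Nat.card_eq_fintype_card] at ih ⊢
      have e : (2 : ℕ) ^ (i + 1) = 2 * 2 ^ i := pow_succ' 2 i
      omega
  refine isCyclic_of_card_pow_eq_one_le fun n hn => ?_
  obtain ⟨i, -, hi⟩ := (Nat.dvd_prime_pow Nat.prime_two).1 (hk ▸ Nat.gcd_dvd_left (Nat.card A) n)
  calc (Finset.univ.filter fun a : A => a ^ n = 1).card
      ≤ (Finset.univ.filter fun a : A => a ^ (2 ^ i) = 1).card := by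
        refine Finset.card_le_card fun a ha => ?_
        simp only [Finset.mem_filter, Finset.mem_univ, true_and] at ha ⊢
        rw [← hi]
        exact pow_gcd_eq_one.2 ⟨by rw [← hk, Nat.card_eq_fintype_card]; exact pow_card_eq_one, ha⟩
    _ = Nat.card {x : A // x ^ (2 ^ i) = 1} := by
        rw [Nat.card_eq_fintype_card, Fintype.card_subtype]
    _ ≤ 2 ^ i := hb i
    _ ≤ n := hi ▸ Nat.le_of_dvd hn (Nat.gcd_dvd_right _ _)

variable {S : Sylow 2 G} (hS : Hyp S)

include hS in
theorem commute_cent {t a b : G} (ht : orderOf t = 2) (ha : Commute a t) (hb : Commute b t) : Commute a b := by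
  haveI := hS.cent t ht
  exact congrArg Subtype.val (mul_comm'
    (⟨a, mem_centralizer_singleton_iff.2 ha.eq⟩ : centralizer ({t} : Set G)) ⟨b, mem_centralizer_singleton_iff.2 hb.eq⟩)

include hS in
theorem S_ne_bot : (S : Subgroup G) ≠ ⊥ := fun h => hS.notCyclic (h ▸ inferInstance)

include hS in
theorem central_invol : ∃ z ∈ (S : Subgroup G), orderOf z = 2 ∧ ∀ x ∈ (S : Subgroup G), Commute x z := by
  haveI : Fact (Nat.Prime 2) := ⟨Nat.prime_two⟩
  haveI := (nontrivial_iff_ne_bot (S : Subgroup G)).2 (S_ne_bot hS)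
  haveI := S.2.center_nontrivial
  obtain ⟨k, hk⟩ := IsPGroup.iff_card.1 (S.2.to_subgroup (center (S : Subgroup G)))
  have h2 : 2 ∣ Nat.card (center (S : Subgroup G)) := hk ▸ dvd_pow_self 2 fun h0 => by
    have := Finite.one_lt_card (α := center (S : Subgroup G))
    rw [hk, h0, pow_zero] at this
    omega
  obtain ⟨z, hz⟩ := exists_prime_orderOf_dvd_card' 2 h2
  exact ⟨((z : (S : Subgroup G)) : G), z.1.2, by rwa [Subgroup.orderOf_coe, Subgroup.orderOf_coe],
    fun x hx => congrArg Subtype.val (mem_center_iff.1 z.2 ⟨x, hx⟩)⟩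

include hS in
theorem S_comm {x y : G} (hx : x ∈ (S : Subgroup G)) (hy : y ∈ (S : Subgroup G)) : Commute x y := by
  obtain ⟨z, -, hz2, hz⟩ := central_invol hS
  exact commute_cent hS hz2 (hz x hx) (hz y hy)

include hS in
/-- The centraliser of the Sylow subgroup is the centraliser of each of its involutions. -/
theorem mem_cent_iff {t c : G} (ht : t ∈ (S : Subgroup G)) (ht2 : orderOf t = 2) :
    c ∈ centralizer ((S : Subgroup G) : Set G) ↔ Commute c t :=
  ⟨fun h => (mem_centralizer_iff.1 h t ht).symm,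
    fun h => mem_centralizer_iff.2 fun _ hx => commute_cent hS ht2 (S_comm hS hx ht) h⟩

include hS in
theorem C_comm {a b : G} (ha : a ∈ centralizer ((S : Subgroup G) : Set G))
    (hb : b ∈ centralizer ((S : Subgroup G) : Set G)) : Commute a b := by
  obtain ⟨z, hz, hz2, -⟩ := central_invol hS
  exact commute_cent hS hz2 ((mem_cent_iff hS hz hz2).1 ha) ((mem_cent_iff hS hz hz2).1 hb)

include hS in
theorem S_le_C : (S : Subgroup G) ≤ centralizer ((S : Subgroup G) : Set G) := fun _ hx =>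
  mem_centralizer_iff.2 fun _ hy => (S_comm hS hy hx).eq

theorem C_le_H : centralizer ((S : Subgroup G) : Set G) ≤ normalizer ((S : Subgroup G) : Set G) :=
  centralizer_le_normalizer _

theorem C_conj {h c : G} (hh : h ∈ normalizer ((S : Subgroup G) : Set G))
    (hc : c ∈ centralizer ((S : Subgroup G) : Set G)) : h * c * h⁻¹ ∈ centralizer ((S : Subgroup G) : Set G) := by
  refine mem_centralizer_iff.2 fun x hx => ?_
  have h1 : h⁻¹ * x * h ∈ (S : Subgroup G) := by
    have := (mem_normalizer_iff.1 (inv_mem hh) x).1 hx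
    rwa [inv_inv] at this
  have h2 : h⁻¹ * x * h * c = c * (h⁻¹ * x * h) := mem_centralizer_iff.1 hc _ h1
  calc x * (h * c * h⁻¹) = h * (h⁻¹ * x * h * c) * h⁻¹ := by group
    _ = h * c * h⁻¹ * x := by rw [h2]; group

theorem le_of_pGroup_normalizer {P : Subgroup G} (hP : IsPGroup 2 P)
    (hle : P ≤ normalizer ((S : Subgroup G) : Set G)) : P ≤ (S : Subgroup G) := by
  haveI : Fact (Nat.Prime 2) := ⟨Nat.prime_two⟩
  have hp : IsPGroup 2 ((S : Subgroup G) ⊔ P : Subgroup G) := S.2.to_sup_of_normal_left' hP hle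
  rw [← S.3 hp le_sup_left]
  exact le_sup_right

theorem invol_mem {t : G} (ht : t ∈ normalizer ((S : Subgroup G) : Set G)) (ht2 : orderOf t = 2) :
    t ∈ (S : Subgroup G) := by
  haveI : Fact (Nat.Prime 2) := ⟨Nat.prime_two⟩
  exact le_of_pGroup_normalizer (P := zpowers t)
    (IsPGroup.of_card (n := 1) (by rw [Nat.card_zpowers, ht2, pow_one])) (zpowers_le.2 ht) (mem_zpowers t)

include hS in
theorem commute_C_invol {t c : G} (ht : t ∈ normalizer ((S : Subgroup G) : Set G)) (ht2 : orderOf t = 2)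
    (hc : Commute c t) : c ∈ centralizer ((S : Subgroup G) : Set G) :=
  (mem_cent_iff hS (invol_mem ht ht2) ht2).2 hc

include hS in
theorem mem_normalizer_of_map_le {g : G}
    (h : ∀ x ∈ (S : Subgroup G), g * x * g⁻¹ ∈ normalizer ((S : Subgroup G) : Set G)) :
    g ∈ normalizer ((S : Subgroup G) : Set G) := by
  have hle : (S : Subgroup G).map (MulAut.conj g).toMonoidHom ≤ (S : Subgroup G) :=
    le_of_pGroup_normalizer (S.2.map _) (by rintro _ ⟨x, hx, rfl⟩; exact h x hx)
  exact mem_normalizer_iff_map_conj_eq.2 (Subgroup.eq_of_le_of_card_ge hle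
    (card_map_of_injective (f := (MulAut.conj g).toMonoidHom) (MulAut.conj g).injective).ge)

include hS in
theorem stronglyEmbedded : Cfsg.IsStronglyEmbedded (normalizer ((S : Subgroup G) : Set G)) := by
  haveI : Fact (Nat.Prime 2) := ⟨Nat.prime_two⟩
  obtain ⟨z, hz, hz2, -⟩ := central_invol hS
  refine ⟨fun h => hS.notNormal (normalizer_eq_top_iff.1 h), even_iff_two_dvd.2
    (hz2.symm.dvd.trans (orderOf_dvd_natCard _ (le_normalizer hz))), fun g hg => Nat.not_even_iff_odd.1 fun hev => hg ?_⟩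
  obtain ⟨w, ho⟩ := exists_prime_orderOf_dvd_card' 2 (even_iff_two_dvd.1 hev)
  rw [← orderOf_coe] at ho
  obtain ⟨v, hv, hvs⟩ := w.2.2
  have hgv : g * v * g⁻¹ = (w : G) := hvs
  have hv2 : orderOf v = 2 := by rw [← ho, ← hgv, CfsgLib.Invol.orderOf_conj_eq]
  refine mem_normalizer_of_map_le hS fun x hx => C_le_H (commute_C_invol hS w.2.1 ho ?_)
  rw [← hgv]
  exact (S_comm hS hx (invol_mem hv hv2)).map (MulAut.conj g).toMonoidHom

include hS in
theorem two_invols : ∃ t ∈ (S : Subgroup G), ∃ t' ∈ (S : Subgroup G),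
    orderOf t = 2 ∧ orderOf t' = 2 ∧ t ≠ t' := by
  by_contra hno
  push Not at hno
  letI : CommGroup (S : Subgroup G) :=
    { (inferInstance : Group (S : Subgroup G)) with mul_comm := fun a b => Subtype.ext (S_comm hS a.2 b.2).eq }
  refine hS.notCyclic (isCyclic_of_sq S.2 fun x y hx hy hx1 hy1 => Subtype.ext ?_)
  refine hno x x.2 y y.2 ?_ ?_ <;> rw [Subgroup.orderOf_coe]
  exacts [orderOf_eq_prime hx hx1, orderOf_eq_prime hy hy1]

/-- All involutions are conjugate under the subgroup they generate. -/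
theorem exists_conj_invClosure {M : Subgroup G} (hM : Cfsg.IsStronglyEmbedded M) {a b : G} (ha : orderOf a = 2)
    (hb : orderOf b = 2) : ∃ k ∈ invClosure G, k * a * k⁻¹ = b := by
  obtain ⟨s, hs, hs2⟩ := StrongEmbed.exists_invol hM
  have key : ∀ {p v : G}, p ∈ M → orderOf p = 2 → orderOf v = 2 → v ∉ M → ∃ k ∈ invClosure G, k * p * k⁻¹ = v := by
    intro p v hp hp2 hv hvM
    obtain ⟨k, hk, -, h⟩ := StrongEmbed.exists_link hM hp hp2 hv hvM
    exact ⟨k, mem_invClosure hk, by rw [CfsgLib.Invol.inv_eq_self hk, h]⟩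
  obtain ⟨g, -, hg⟩ := SetLike.exists_of_lt (lt_top_iff_ne_top.2 hM.1)
  have h1 : g * s * g⁻¹ ∉ M := fun h => hg (by
    have h2 := StrongEmbed.mem_of_conj_mem hM hs hs2 (g := g⁻¹) (by rwa [inv_inv])
    simpa using h2)
  have h2 : orderOf (g * s * g⁻¹) = 2 := by rw [CfsgLib.Invol.orderOf_conj_eq, hs2]
  have hall : ∀ v, orderOf v = 2 → ∃ k ∈ invClosure G, k * s * k⁻¹ = v := by
    intro v hv
    by_cases hvM : v ∈ M
    · obtain ⟨k, hk, e⟩ := key hs hs2 h2 h1
      obtain ⟨k', hk', e'⟩ := key hvM hv h2 h1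
      refine ⟨k'⁻¹ * k, mul_mem (inv_mem hk') hk, ?_⟩
      calc k'⁻¹ * k * s * (k'⁻¹ * k)⁻¹ = k'⁻¹ * (k * s * k⁻¹) * k' := by group
        _ = v := by rw [e, ← e']; group
    · exact key hs hs2 hv hvM
  obtain ⟨k, hk, e⟩ := hall a ha
  obtain ⟨k', hk', e'⟩ := hall b hb
  refine ⟨k' * k⁻¹, mul_mem hk' (inv_mem hk), ?_⟩
  rw [← e, ← e']; group

include hS in
/-- An element of some involution centraliser that commutes with all involutions is central. -/
theorem mem_center_of_commute {t c : G} (ht : orderOf t = 2) (hc : Commute c t)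
    (hall : ∀ v : G, orderOf v = 2 → Commute c v) : c ∈ center G := by
  rw [mem_center_iff]
  intro g
  obtain ⟨k, hk, hkt⟩ := exists_conj_invClosure (stronglyEmbedded hS) (a := t) (b := g * t * g⁻¹) ht
    (by rw [CfsgLib.Invol.orderOf_conj_eq, ht])
  have hle : invClosure G ≤ centralizer ({c} : Set G) :=
    (closure_le _).2 fun v hv => mem_centralizer_singleton_iff.2 (hall v hv).symm.eq
  have hkc : Commute c k := (mem_centralizer_singleton_iff.1 (hle hk)).symm
  have h1 : Commute (k⁻¹ * g) t := by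
    show k⁻¹ * g * t = t * (k⁻¹ * g)
    calc k⁻¹ * g * t = k⁻¹ * (g * t * g⁻¹) * g := by group
      _ = k⁻¹ * (k * t * k⁻¹) * g := by rw [hkt]
      _ = t * (k⁻¹ * g) := by group
  have h2 := hkc.mul_right (commute_cent hS ht hc h1)
  rw [mul_inv_cancel_left] at h2
  exact h2.eq.symm

include hS in
theorem odd_center : Odd (Nat.card (center G)) := by
  haveI : Fact (Nat.Prime 2) := ⟨Nat.prime_two⟩
  by_contra hev
  obtain ⟨t, ht⟩ := exists_prime_orderOf_dvd_card' 2 (even_iff_two_dvd.1 (Nat.not_odd_iff_even.1 hev))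
  have ht2 : orderOf (t : G) = 2 := by rwa [Subgroup.orderOf_coe]
  have hc : ∀ g : G, Commute g (t : G) := fun g => mem_center_iff.1 t.2 g
  refine hS.notNormal ?_
  haveI : IsMulCommutative G := ⟨⟨fun a b => commute_cent hS ht2 (hc a) (hc b)⟩⟩
  exact ⟨fun x hx g => by rwa [mul_comm' g x, mul_inv_cancel_right]⟩

end CfsgLib.AbelianInvCent
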