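import Cfsg.Agent.AbelianInvCent.Setup
import Cfsg.Agent.Zass.AbelianKernel
import Cfsg.Agent.Zass.Sharp
import Cfsg.Prelude.Def_LieExceptional
import Mathlib.GroupTheory.FixedPointFree

/-!
# Abelian involution centralisers: the case of a trivial intersection centraliser
-/

set_option autoImplicit false

namespace CfsgLib.AbelianInvCent

open Subgroup

variable {G : Type*} [Group G] [Finite G] {S : Sylow 2 G}

local notation "NH" => (normalizer ((S : Subgroup G) : Set G))
local notation "CC" => (centralizer ((S : Subgroup G) : Set G))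
local notation "oo" => (QuotientGroup.mk (1 : G) : G ⧸ NH)

/-- Centralisers of the nontrivial elements of the centraliser of the Sylow subgroup stay in the normaliser. -/
def IsTI (S : Sylow 2 G) : Prop :=
  ∀ x ∈ centralizer ((S : Subgroup G) : Set G), x ≠ 1 →
    centralizer ({x} : Set G) ≤ normalizer ((S : Subgroup G) : Set G)

variable (hS : Hyp S) (hTI : IsTI S)

include hS hTI in
theorem ti_normalizes {v x y c : G} (hv : orderOf v = 2) (hxv : Commute x v) (hx1 : x ≠ 1) (hyx : Commute y x)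
    (hcv : Commute c v) : Commute (y * c * y⁻¹) v := by
  obtain ⟨z, hz, hz2, -⟩ := central_invol hS
  obtain ⟨g, rfl⟩ := isConj_iff.1 (StrongEmbed.isConj_of_invols (stronglyEmbedded hS) hz2 hv)
  have key : ∀ {a : G}, Commute a (g * z * g⁻¹) → g⁻¹ * a * g ∈ CC := fun {a} ha => by
    refine (mem_cent_iff hS hz hz2).2 ?_
    have h := ha.map (MulAut.conj g⁻¹).toMonoidHom
    simp only [MulEquiv.coe_toMonoidHom, MulAut.conj_apply, inv_inv] at h
    rwa [show g⁻¹ * (g * z * g⁻¹) * g = z by group] at h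
  have hy : g⁻¹ * y * g ∈ NH := by
    refine hTI _ (key hxv) (fun h => hx1 ?_) (mem_centralizer_singleton_iff.2 ?_)
    · calc x = g * (g⁻¹ * x * g) * g⁻¹ := by group
        _ = 1 := by rw [h]; group
    · calc g⁻¹ * y * g * (g⁻¹ * x * g) = g⁻¹ * (y * x) * g := by group
        _ = g⁻¹ * (x * y) * g := by rw [hyx.eq]
        _ = g⁻¹ * x * g * (g⁻¹ * y * g) := by group
  have h := ((mem_cent_iff hS hz hz2).1 (C_conj hy (key hcv))).map (MulAut.conj g).toMonoidHom
  simp only [MulEquiv.coe_toMonoidHom, MulAut.conj_apply] at h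
  rwa [show g * (g⁻¹ * y * g * (g⁻¹ * c * g) * (g⁻¹ * y * g)⁻¹) * g⁻¹ = y * c * y⁻¹ by group] at h

include hS hTI in
theorem ti_disjoint {g x : G} (hg : g ∉ NH) (hx : x ∈ CC) (hxg : g⁻¹ * x * g ∈ CC) : x = 1 := by
  by_contra hx1
  refine hg (mem_normalizer_of_map_le hS fun s hs => hTI x hx hx1 (mem_centralizer_singleton_iff.2 ?_))
  have h : Commute s (g⁻¹ * x * g) := mem_centralizer_iff.1 hxg s hs
  have h' := h.map (MulAut.conj g).toMonoidHom
  simp only [MulEquiv.coe_toMonoidHom, MulAut.conj_apply] at h'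
  rw [show g * (g⁻¹ * x * g) * g⁻¹ = x by group] at h'
  exact h'.eq

section Swap

variable {u : G} (hu : orderOf u = 2) (huH : u ∉ normalizer ((S : Subgroup G) : Set G))

include hS huH in
theorem odd_D : Odd (Nat.card ↥(NH ⊓ (NH).map (MulAut.conj u).toMonoidHom)) :=
  (stronglyEmbedded hS).2.2 u huH

theorem D_conj_mem {d : G} (hu' : orderOf u = 2) (hd : d ∈ NH ⊓ (NH).map (MulAut.conj u).toMonoidHom) :
    u * d * u ∈ NH := by
  have := (StrongEmbed.mem_inf_conj_iff.1 hd).2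
  rwa [CfsgLib.Invol.inv_eq_self hu'] at this

include hS hTI hu huH in
theorem D_inter_C {a : G} (ha : a ∈ NH ⊓ (NH).map (MulAut.conj u).toMonoidHom) (haC : a ∈ CC) : a = 1 := by
  have hui : u⁻¹ = u := CfsgLib.Invol.inv_eq_self hu
  have huu : ∀ w : G, u * (u * w) = w := fun w => by
    rw [← mul_assoc, CfsgLib.Invol.mul_self_eq_one hu, one_mul]
  have huu' : u * u = 1 := CfsgLib.Invol.mul_self_eq_one hu
  have hb : u * a * u ∈ NH := D_conj_mem hu ha
  have haH : a ∈ NH := ha.1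
  set b := u * a * u with hbdef
  have hba : u * b * u = a := by simp only [hbdef, mul_assoc, huu, huu', mul_one]
  -- `a` and `b` commute
  have h1 : a * b * a⁻¹ * b⁻¹ ∈ CC := by
    rw [show a * b * a⁻¹ * b⁻¹ = a * (b * a⁻¹ * b⁻¹) by group]
    exact mul_mem haC (C_conj hb (inv_mem haC))
  have h2 : u⁻¹ * (a * b * a⁻¹ * b⁻¹) * u ∈ CC := by
    have e : u⁻¹ * (a * b * a⁻¹ * b⁻¹) * u = b * a * b⁻¹ * a⁻¹ := by
      simp only [hbdef, mul_inv_rev, hui, mul_assoc, huu, huu', mul_one]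
    rw [e]
    exact mul_mem (C_conj hb haC) (inv_mem haC)
  have hab : Commute a b := by
    have h := ti_disjoint hS hTI huH h1 h2
    show a * b = b * a
    rw [mul_inv_eq_one, mul_inv_eq_iff_eq_mul] at h
    exact h
  by_cases hx : a * b = 1
  · refine ti_disjoint hS hTI huH haC ?_
    rw [hui, ← hbdef, eq_inv_of_mul_eq_one_right hx]
    exact inv_mem haC
  have hxu : Commute (a * b) u := by
    show a * b * u = u * (a * b)
    calc a * b * u = b * a * u := by rw [hab.eq]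
      _ = u * (a * b) := by simp only [hbdef, mul_assoc]
  have h3 : Commute (a * u * a⁻¹) u :=
    ti_normalizes hS hTI hu hxu hx ((Commute.refl a).mul_right hab) (Commute.refl u)
  set y := a * u * a⁻¹ * u with hydef
  have hyb : y = a * b⁻¹ := by simp only [hydef, hbdef, mul_inv_rev, hui, mul_assoc]
  have hyu : Commute y u := h3.mul_left (Commute.refl u)
  have hy2 : y ^ 2 = 1 := by
    have e1 : u * y * u = y⁻¹ := by
      simp only [hydef, mul_inv_rev, inv_inv, hui, mul_assoc, huu, huu', mul_one]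
    have e2 : u * y * u = y := by rw [← hyu.eq, mul_assoc, huu', mul_one]
    rw [e2] at e1
    rw [pow_two]
    nth_rewrite 2 [e1]
    exact mul_inv_cancel y
  have hyD : y ∈ NH ⊓ (NH).map (MulAut.conj u).toMonoidHom := by
    refine StrongEmbed.mem_inf_conj_iff.2 ⟨hyb ▸ mul_mem haH (inv_mem hb), ?_⟩
    rw [mul_assoc, hyu.eq, inv_mul_cancel_left]
    exact hyb ▸ mul_mem haH (inv_mem hb)
  have hy1 : y = 1 := by
    rw [← orderOf_eq_one_iff]
    exact Nat.eq_one_of_dvd_coprimes (Nat.coprime_two_left.2 (odd_D hS huH))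
      (orderOf_dvd_of_pow_eq_one hy2) (orderOf_dvd_natCard _ hyD)
  have hab' : a = b := mul_inv_eq_one.1 (hyb ▸ hy1)
  refine ti_disjoint hS hTI huH haC ?_
  rw [hui, ← hbdef, ← hab']
  exact haC

end Swap

include hS hTI in
theorem C_semiregular {a : G} (ha : a ∈ CC) {y : G ⧸ NH} (hy : y ≠ oo) (h : a • y = y) : a = 1 := by
  obtain ⟨v, hv2, hvy⟩ := StrongEmbed.exists_swap (stronglyEmbedded hS) (Ne.symm hy)
  have hvH : v ∉ NH := fun h => hy (hvy.symm.trans (StrongEmbed.smul_mk_one_iff.2 h))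
  refine D_inter_C hS hTI hv2 hvH (StrongEmbed.mem_inf_conj_iff.2 ⟨C_le_H ha, StrongEmbed.smul_mk_iff.1 ?_⟩) ha
  rwa [← StrongEmbed.smul_mk_one_eq (g := v), hvy]

section Swap

variable {u : G} (hu : orderOf u = 2) (huH : u ∉ normalizer ((S : Subgroup G) : Set G))

include hS hTI hu huH in
theorem D_commute_invol {d t : G} (hd : d ∈ NH ⊓ (NH).map (MulAut.conj u).toMonoidHom) (ht : orderOf t = 2)
    (hc : Commute d t) : d = 1 := by
  obtain ⟨z, hz, hz2, -⟩ := central_invol hS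
  obtain ⟨g, rfl⟩ := isConj_iff.1 (StrongEmbed.isConj_of_invols (stronglyEmbedded hS) hz2 ht)
  have ha : g⁻¹ * d * g ∈ CC := by
    refine (mem_cent_iff hS hz hz2).2 ?_
    have h := hc.map (MulAut.conj g⁻¹).toMonoidHom
    simp only [MulEquiv.coe_toMonoidHom, MulAut.conj_apply, inv_inv] at h
    rwa [show g⁻¹ * (g * z * g⁻¹) * g = z by group] at h
  by_cases hg : g ∈ NH
  · refine D_inter_C hS hTI hu huH hd ?_
    have := C_conj hg ha
    rwa [show g * (g⁻¹ * d * g) * g⁻¹ = d by group] at this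
  · have h := C_semiregular hS hTI ha (y := QuotientGroup.mk g⁻¹)
      (fun e => hg (inv_mem_iff.1 (StrongEmbed.smul_mk_one_iff.1 (StrongEmbed.smul_mk_one_eq.trans e))))
      (StrongEmbed.smul_mk_iff.2 (by
        rw [inv_inv, show g * (g⁻¹ * d * g) * g⁻¹ = d by group]
        exact hd.1))
    calc d = g * (g⁻¹ * d * g) * g⁻¹ := by group
      _ = 1 := by rw [h]; group

include hS hTI hu huH in
theorem card_D : Nat.card ↥(NH ⊓ (NH).map (MulAut.conj u).toMonoidHom) =
    Nat.card {t : G // orderOf t = 2 ∧ t ∈ NH} := by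
  obtain ⟨z, hz, hz2, -⟩ := central_invol hS
  refine Nat.card_congr (Equiv.ofBijective (fun d => ⟨(d : G) * z * (d : G)⁻¹,
    by rw [CfsgLib.Invol.orderOf_conj_eq, hz2], mul_mem (mul_mem d.2.1 (le_normalizer hz)) (inv_mem d.2.1)⟩)
    ⟨fun d d' h => ?_, fun t => ?_⟩)
  · have h' : (d : G) * z * (d : G)⁻¹ = (d' : G) * z * (d' : G)⁻¹ := congrArg Subtype.val h
    refine Subtype.ext (inv_mul_eq_one.1 (D_commute_invol hS hTI hu huH (mul_mem (inv_mem d.2) d'.2) hz2 ?_))
    show (d : G)⁻¹ * d' * z = z * ((d : G)⁻¹ * d')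
    calc (d : G)⁻¹ * d' * z = (d : G)⁻¹ * ((d' : G) * z * (d' : G)⁻¹) * d' := by group
      _ = (d : G)⁻¹ * ((d : G) * z * (d : G)⁻¹) * d' := by rw [h']
      _ = z * ((d : G)⁻¹ * d') := by group
  · obtain ⟨d, hd, h⟩ := StrongEmbed.exists_conj_in_stabilizer (stronglyEmbedded hS) hu huH hz2
      (le_normalizer hz) t.2.1 t.2.2
    exact ⟨⟨d, hd⟩, Subtype.ext h⟩

include hS hu huH in
theorem exists_split {h : G} (hh : h ∈ NH) :
    ∃ d ∈ NH ⊓ (NH).map (MulAut.conj u).toMonoidHom, ∃ c ∈ CC, h = d * c := by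
  obtain ⟨z, hz, hz2, -⟩ := central_invol hS
  have h1 : h * z * h⁻¹ ∈ (S : Subgroup G) := (mem_normalizer_iff.1 hh z).1 hz
  obtain ⟨d, hd, hdz⟩ := StrongEmbed.exists_conj_in_stabilizer (stronglyEmbedded hS) hu huH hz2
    (le_normalizer hz) (by rw [CfsgLib.Invol.orderOf_conj_eq, hz2]) (le_normalizer h1)
  refine ⟨d, hd, d⁻¹ * h, (mem_cent_iff hS hz hz2).2 ?_, by group⟩
  show d⁻¹ * h * z = z * (d⁻¹ * h)
  calc d⁻¹ * h * z = d⁻¹ * (h * z * h⁻¹) * h := by group
    _ = d⁻¹ * (d * z * d⁻¹) * h := by rw [hdz]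
    _ = z * (d⁻¹ * h) := by group

include hS hTI hu huH in
theorem inverts {d : G} (hd : d ∈ NH ⊓ (NH).map (MulAut.conj u).toMonoidHom) : u * d * u⁻¹ = d⁻¹ := by
  have hne : oo ≠ QuotientGroup.mk u := fun h =>
    huH (StrongEmbed.smul_mk_one_iff.1 (StrongEmbed.smul_mk_one_eq.trans h.symm))
  let Sw := {k : G // orderOf k = 2 ∧ k • oo = QuotientGroup.mk u}
  have hmem : ∀ k : Sw, u * k.1 ∈ NH ⊓ (NH).map (MulAut.conj u).toMonoidHom := fun k => by
    have h1 : u⁻¹ * k.1 ∈ NH := by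
      have h := k.2.2
      rwa [StrongEmbed.smul_mk_one_eq, eq_comm, QuotientGroup.eq] at h
    refine StrongEmbed.mem_inf_conj_iff.2 ⟨by rwa [CfsgLib.Invol.inv_eq_self hu] at h1, ?_⟩
    rw [show u⁻¹ * (u * k.1) * u = k.1 * u by group]
    have h2 := inv_mem h1
    rwa [mul_inv_rev, inv_inv, CfsgLib.Invol.inv_eq_self k.2.1] at h2
  let f : Sw → ↥(NH ⊓ (NH).map (MulAut.conj u).toMonoidHom) := fun k => ⟨u * k.1, hmem k⟩
  have hinj : Function.Injective f := fun k k' h => Subtype.ext (mul_left_cancel (congrArg Subtype.val h))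
  have hcard : Nat.card Sw = Nat.card ↥(NH ⊓ (NH).map (MulAut.conj u).toMonoidHom) := by
    rw [card_D hS hTI hu huH]
    exact StrongEmbed.card_swap (stronglyEmbedded hS) hne
  obtain ⟨k, hk⟩ := ((Nat.bijective_iff_injective_and_card f).2 ⟨hinj, hcard⟩).2 ⟨d, hd⟩
  have e : u * k.1 = d := congrArg Subtype.val hk
  rw [← e, mul_inv_rev, CfsgLib.Invol.inv_eq_self k.2.1, CfsgLib.Invol.inv_eq_self hu, ← mul_assoc u u,
    CfsgLib.Invol.mul_self_eq_one hu, one_mul]

include hS hTI hu huH in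
theorem D_comm {d d' : G} (hd : d ∈ NH ⊓ (NH).map (MulAut.conj u).toMonoidHom)
    (hd' : d' ∈ NH ⊓ (NH).map (MulAut.conj u).toMonoidHom) : Commute d d' := by
  have h := inverts hS hTI hu huH (mul_mem hd hd')
  rw [← conj_mul, inverts hS hTI hu huH hd, inverts hS hTI hu huH hd', mul_inv_rev] at h
  exact (Commute.inv_inv_iff).1 h

include hS hTI hu huH in
theorem eq_one_of_sq {d : G} (hd : d ∈ NH ⊓ (NH).map (MulAut.conj u).toMonoidHom) (h : d ^ 2 = 1) : d = 1 :=
  orderOf_eq_one_iff.1 (Nat.eq_one_of_dvd_coprimes (Nat.coprime_two_left.2 (odd_D hS huH))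
    (orderOf_dvd_of_pow_eq_one h) (orderOf_dvd_natCard _ hd))

include hS hTI hu huH in
theorem not_inverted_in_H {d h : G} (hd : d ∈ NH ⊓ (NH).map (MulAut.conj u).toMonoidHom) (hd1 : d ≠ 1)
    (hh : h ∈ NH) : h * d * h⁻¹ ≠ d⁻¹ := by
  intro he
  obtain ⟨e, he', t, ht, rfl⟩ := exists_split hS hu huH hh
  have h1 : t * d * t⁻¹ = d⁻¹ := by
    calc t * d * t⁻¹ = e⁻¹ * (e * t * d * (e * t)⁻¹) * e := by group
      _ = e⁻¹ * d⁻¹ * e := by rw [he]
      _ = d⁻¹ := by rw [mul_assoc, ← (D_comm hS hTI hu huH he' (inv_mem hd)).eq, inv_mul_cancel_left]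
  have h2 : t * (d * t⁻¹ * d⁻¹) ∈ CC := mul_mem ht (C_conj hd.1 (inv_mem ht))
  rw [show t * (d * t⁻¹ * d⁻¹) = t * d * t⁻¹ * d⁻¹ by group, h1] at h2
  have h3 := D_inter_C hS hTI hu huH (mul_mem (inv_mem hd) (inv_mem hd)) h2
  refine hd1 (eq_one_of_sq hS hTI hu huH hd ?_)
  rw [← inv_eq_one, ← inv_pow, sq, h3]

include hS hTI hu huH in
theorem centralizer_D {d c : G} (hd : d ∈ NH ⊓ (NH).map (MulAut.conj u).toMonoidHom) (hd1 : d ≠ 1)
    (hc : Commute c d) : c ∈ NH ⊓ (NH).map (MulAut.conj u).toMonoidHom := by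
  have hui : u⁻¹ = u := CfsgLib.Invol.inv_eq_self hu
  have huu : ∀ w : G, u * (u * w) = w := fun w => by
    rw [← mul_assoc, CfsgLib.Invol.mul_self_eq_one hu, one_mul]
  have huu' : u * u = 1 := CfsgLib.Invol.mul_self_eq_one hu
  have hdu : u * d * u = d⁻¹ := by
    have := inverts hS hTI hu huH hd
    rwa [hui] at this
  set C := centralizer ({d} : Set G)
  have hinvC : ∀ {x : G}, Commute x d → Commute (u * x * u⁻¹) d := fun {x} hx => by
    have h1 := hx.inv_right.map (MulAut.conj u).toMonoidHom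
    simp only [MulEquiv.coe_toMonoidHom, map_inv, MulAut.conj_apply, inverts hS hTI hu huH hd, inv_inv] at h1
    exact h1
  have hinv : ∀ {x : G}, Commute x d → u * x * u⁻¹ = x⁻¹ := by
    intro x hx
    let φ : C →* C := MonoidHom.mk' (fun y => ⟨u * y * u⁻¹,
      mem_centralizer_singleton_iff.2 (hinvC (mem_centralizer_singleton_iff.1 y.2)).eq⟩)
      fun y y' => Subtype.ext (by push_cast; group)
    have hfp : MonoidHom.FixedPointFree φ := fun y hy => by
      have h1 : u * (y : G) * u⁻¹ = y := congrArg Subtype.val hy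
      by_contra hne
      have hyu : Commute (y : G) u := (mul_inv_eq_iff_eq_mul.1 h1).symm
      have hyd : Commute (y : G) d := mem_centralizer_singleton_iff.1 y.2
      have h3 := ti_normalizes hS hTI hu hyu (fun h => hne (Subtype.ext h)) hyd.symm (Commute.refl u)
      have h4 : Commute (d ^ 2) u := by
        have e : d * u * d⁻¹ * u = d ^ 2 :=
          calc d * u * d⁻¹ * u = d * (u * d⁻¹ * u) := by group
            _ = d ^ 2 := by
              rw [show u * d⁻¹ * u = d by rw [← hdu]; simp only [mul_assoc, huu, huu', mul_one], pow_two]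
        exact e ▸ h3.mul_left (Commute.refl u)
      refine hd1 (eq_one_of_sq hS hTI hu huH hd ?_)
      exact D_commute_invol hS hTI hu huH (pow_mem hd 2) hu h4
    have hinvol : Function.Involutive φ := fun y => Subtype.ext (by
      show u * (u * (y : G) * u⁻¹) * u⁻¹ = y
      rw [show u * (u * (y : G) * u⁻¹) * u⁻¹ = (u * u) * y * (u * u)⁻¹ by group, huu']
      group)
    exact congrArg Subtype.val
      (congrFun (hfp.coe_eq_inv_of_involutive hinvol) ⟨x, mem_centralizer_singleton_iff.2 hx.eq⟩)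
  have hcH : c ∈ NH := by
    by_contra hcH
    obtain ⟨v, hv2, hvc⟩ := StrongEmbed.exists_swap (stronglyEmbedded hS)
      (x := oo) (y := (QuotientGroup.mk c : G ⧸ NH))
      fun h => hcH (StrongEmbed.smul_mk_one_iff.1 (StrongEmbed.smul_mk_one_eq.trans h.symm))
    have hvH : v ∉ NH := fun h =>
      hcH (StrongEmbed.smul_mk_one_iff.1 (StrongEmbed.smul_mk_one_eq.trans (hvc.symm.trans
        (StrongEmbed.smul_mk_one_iff.2 h))))
    have h1 : v⁻¹ * c ∈ NH := by
      rwa [StrongEmbed.smul_mk_one_eq, QuotientGroup.eq] at hvc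
    have hdv : d ∈ NH ⊓ (NH).map (MulAut.conj v).toMonoidHom := by
      refine StrongEmbed.mem_inf_conj_iff.2 ⟨hd.1, ?_⟩
      have e : c * d * c⁻¹ = d := by rw [hc.eq, mul_inv_cancel_right]
      rw [show v⁻¹ * d * v = (v⁻¹ * c) * d * (v⁻¹ * c)⁻¹ by
        conv_lhs => rw [← e]
        group]
      exact mul_mem (mul_mem h1 hd.1) (inv_mem h1)
    refine not_inverted_in_H hS hTI hu huH hd hd1 (inv_mem h1) ?_
    rw [mul_inv_rev, inv_inv, mul_inv_rev, inv_inv, show c⁻¹ * v * d * (v⁻¹ * c) = c⁻¹ * (v * d * v⁻¹) * c by group,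
      inverts hS hTI hv2 hvH hdv, mul_assoc, ← hc.inv_right.eq, inv_mul_cancel_left]
  obtain ⟨e, he, t, ht, rfl⟩ := exists_split hS hu huH hcH
  suffices ht1 : t = 1 by rw [ht1, mul_one]; exact he
  have h2 : Commute t d := by
    have h := ((D_comm hS hTI hu huH he hd).inv_left).mul_left hc
    rwa [inv_mul_cancel_left] at h
  refine ti_disjoint hS hTI huH ht ?_
  have h3 := hinv h2
  rw [hui] at h3 ⊢
  exact h3.symm ▸ inv_mem ht

include hS hTI hu huH in
/-- A nontrivial element of `D` fixes exactly two points. -/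
theorem fixed_points {d g : G} (hd : d ∈ NH ⊓ (NH).map (MulAut.conj u).toMonoidHom) (hd1 : d ≠ 1)
    (hg : d • (QuotientGroup.mk g : G ⧸ NH) = QuotientGroup.mk g) :
    (QuotientGroup.mk g : G ⧸ NH) = oo ∨ (QuotientGroup.mk g : G ⧸ NH) = QuotientGroup.mk u := by
  by_cases hgo : (QuotientGroup.mk g : G ⧸ NH) = oo
  · exact Or.inl hgo
  right
  obtain ⟨v, hv2, hvy⟩ := StrongEmbed.exists_swap (stronglyEmbedded hS) (Ne.symm hgo)
  have hvH : v ∉ NH := fun h => hgo (hvy.symm.trans (StrongEmbed.smul_mk_one_iff.2 h))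
  have hdv : d ∈ NH ⊓ (NH).map (MulAut.conj v).toMonoidHom := by
    refine StrongEmbed.mem_inf_conj_iff.2 ⟨hd.1, StrongEmbed.smul_mk_iff.1 ?_⟩
    rw [← StrongEmbed.smul_mk_one_eq (g := v), hvy, hg]
  have hcomm : Commute (v * u) d := by
    refine (mul_inv_eq_iff_eq_mul.1 ?_ : v * u * d = d * (v * u))
    rw [show v * u * d * (v * u)⁻¹ = v * (u * d * u⁻¹) * v⁻¹ by group, inverts hS hTI hu huH hd, ← conj_inv,
      inverts hS hTI hv2 hvH hdv, inv_inv]
  have hvu := centralizer_D hS hTI hu huH hd hd1 hcomm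
  rw [← hvy, ← StrongEmbed.smul_mk_one_eq (g := u)]
  conv_lhs => rw [show v = v * u * u by rw [mul_assoc, CfsgLib.Invol.mul_self_eq_one hu, mul_one]]
  rw [mul_smul, StrongEmbed.smul_mk_one_eq, StrongEmbed.smul_mk_iff]
  exact (StrongEmbed.mem_inf_conj_iff.1 hvu).2

include hS hTI hu huH in
theorem three_le_D : 3 ≤ Nat.card ↥(NH ⊓ (NH).map (MulAut.conj u).toMonoidHom) := by
  obtain ⟨t, ht, t', ht', ht2, ht2', hne⟩ := two_invols hS
  have h3 : orderOf (t * t') = 2 := by
    refine CfsgLib.Invol.orderOf_eq_two ?_ fun h => hne ?_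
    · rw [(S_comm hS ht' ht).mul_mul_mul_comm, CfsgLib.Invol.mul_self_eq_one ht2,
        CfsgLib.Invol.mul_self_eq_one ht2', one_mul]
    · rwa [mul_eq_one_iff_eq_inv, CfsgLib.Invol.inv_eq_self ht2'] at h
  rw [card_D hS hTI hu huH]
  letI := Fintype.ofFinite {x : G // orderOf x = 2 ∧ x ∈ NH}
  rw [Nat.card_eq_fintype_card]
  refine le_trans ?_ (Finset.card_le_univ (s := Finset.univ.map ⟨(![⟨t, ht2, le_normalizer ht⟩,
    ⟨t', ht2', le_normalizer ht'⟩, ⟨t * t', h3, le_normalizer (mul_mem ht ht')⟩] :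
      Fin 3 → {x : G // orderOf x = 2 ∧ x ∈ NH}), ?_⟩))
  · simp
  · have e1 : t ≠ t * t' := fun h => by rw [left_eq_mul] at h; rw [h, orderOf_one] at ht2'; omega
    have e2 : t' ≠ t * t' := fun h => by rw [right_eq_mul] at h; rw [h, orderOf_one] at ht2; omega
    intro i j h
    fin_cases i <;> fin_cases j <;> simp [Subtype.ext_iff, hne, hne.symm, e1, e1.symm, e2, e2.symm] at h ⊢

end Swap

theorem card_dvd_of_free {D X : Type*} [Group D] [Finite D] [MulAction D X] [Finite X]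
    (h : ∀ x : X, MulAction.stabilizer D x = ⊥) : Nat.card D ∣ Nat.card X := by
  rw [Nat.card_congr (MulAction.selfEquivSigmaOrbits D X)]
  haveI := Fintype.ofFinite (MulAction.orbitRel.Quotient D X)
  rw [Nat.card_sigma]
  refine Finset.dvd_sum fun q _ => dvd_of_eq ?_
  rw [Nat.card_congr (MulAction.orbitEquivQuotientStabilizer D _), ← index_eq_card, h, index_bot]

include hS in
theorem exists_outside : ∃ u : G, orderOf u = 2 ∧ u ∉ NH := by
  obtain ⟨g, -, hg⟩ := SetLike.exists_of_lt (lt_top_iff_ne_top.2 (stronglyEmbedded hS).1)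
  obtain ⟨k, hk2, hk⟩ := StrongEmbed.exists_swap (stronglyEmbedded hS) (x := oo) (y := (QuotientGroup.mk g : G ⧸ NH))
    fun h => hg (StrongEmbed.smul_mk_one_iff.1 (StrongEmbed.smul_mk_one_eq.trans h.symm))
  exact ⟨k, hk2, fun h => hg (StrongEmbed.smul_mk_one_iff.1
    (StrongEmbed.smul_mk_one_eq.trans (hk.symm.trans (StrongEmbed.smul_mk_one_iff.2 h))))⟩

include hS hTI in
theorem C_transitive {u : G} (hu : orderOf u = 2) (huH : u ∉ NH) {y : G ⧸ NH} (hy : y ≠ oo) :
    ∃ c ∈ CC, c • y = QuotientGroup.mk u := by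
  by_contra hne
  push Not at hne
  obtain ⟨v, hv2, hvy⟩ := StrongEmbed.exists_swap (stronglyEmbedded hS) (Ne.symm hy)
  have hvH : v ∉ NH := fun h => hy (hvy.symm.trans (StrongEmbed.smul_mk_one_iff.2 h))
  set D : Subgroup G := NH ⊓ (NH).map (MulAut.conj u).toMonoidHom
  have hDy : ∀ e ∈ NH ⊓ (NH).map (MulAut.conj v).toMonoidHom, e • y = y := fun e he => by
    rw [← hvy, StrongEmbed.smul_mk_one_eq]
    exact StrongEmbed.smul_mk_iff.2 (StrongEmbed.mem_inf_conj_iff.1 he).2
  let O : Set (G ⧸ NH) := Set.range fun c : CC => (c : G) • y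
  have hclosed : ∀ d : D, ∀ z : O, (d : G) • (z : G ⧸ NH) ∈ O := by
    rintro d ⟨_, c, rfl⟩
    obtain ⟨e, he, c', hc', h⟩ := exists_split hS hv2 hvH (mul_mem d.2.1 (C_le_H c.2))
    refine ⟨⟨e * c' * e⁻¹, C_conj he.1 hc'⟩, ?_⟩
    show (e * c' * e⁻¹) • y = (d : G) • (c : G) • y
    rw [← mul_smul (d : G), h, mul_smul (e * c'), hDy _ (inv_mem he)]
  letI : MulAction D O :=
    { smul := fun d z => ⟨(d : G) • (z : G ⧸ NH), hclosed d z⟩
      one_smul := fun z => Subtype.ext (one_smul G (z : G ⧸ NH))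
      mul_smul := fun d d' z => Subtype.ext (mul_smul (d : G) (d' : G) (z : G ⧸ NH)) }
  have hfree : ∀ z : O, MulAction.stabilizer D z = ⊥ := by
    intro z
    refine eq_bot_iff.2 fun d hd => mem_bot.2 ?_
    by_contra hd1
    obtain ⟨g, hg⟩ := QuotientGroup.mk_surjective (z : G ⧸ NH)
    have h1 : (d : G) • (z : G ⧸ NH) = z := congrArg Subtype.val (MulAction.mem_stabilizer_iff.1 hd)
    rw [← hg] at h1
    obtain ⟨c, hw⟩ := z.2
    rcases fixed_points hS hTI hu huH d.2 (fun h => hd1 (Subtype.ext h)) h1 with h | h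
    · rw [hg, ← hw] at h
      exact hy (smul_left_cancel (c : G) (h.trans (StrongEmbed.smul_mk_one_iff.2 (C_le_H c.2)).symm))
    · rw [hg, ← hw] at h
      exact hne c c.2 h
  have hO : Nat.card O = Nat.card CC := by
    refine Nat.card_range_of_injective fun a b hab => ?_
    have hab' : (a : G) • y = (b : G) • y := hab
    exact (inv_mul_eq_one.1 (Subtype.ext (C_semiregular hS hTI (mul_mem (inv_mem b.2) a.2) hy
      (by push_cast; rw [mul_smul, hab', inv_smul_smul])) : b⁻¹ * a = 1)).symm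
  have hdvd : Nat.card D ∣ Nat.card CC := hO ▸ card_dvd_of_free hfree
  let X := {c : CC // c ≠ 1}
  letI : MulAction D X :=
    { smul := fun d c => ⟨⟨(d : G) * (c.1 : G) * (d : G)⁻¹, C_conj d.2.1 c.1.2⟩, fun h => c.2 (Subtype.ext
        (conj_eq_one_iff.1 (congrArg Subtype.val h)))⟩
      one_smul := fun c => Subtype.ext (Subtype.ext (show ((1 : D) : G) * (c.1 : G) * ((1 : D) : G)⁻¹ = c.1 by
        simp))
      mul_smul := fun d d' c => Subtype.ext (Subtype.ext (show ((d * d' : D) : G) * (c.1 : G) * ((d * d' : D) : G)⁻¹ =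
        (d : G) * ((d' : G) * c.1 * (d' : G)⁻¹) * (d : G)⁻¹ by push_cast; group)) }
  have hfree' : ∀ c : X, MulAction.stabilizer D c = ⊥ := by
    intro c
    refine eq_bot_iff.2 fun d hd => mem_bot.2 ?_
    by_contra hd1
    have h1 : (d : G) * (c.1 : G) * (d : G)⁻¹ = c.1 :=
      congrArg (fun w : X => ((w.1 : CC) : G)) (MulAction.mem_stabilizer_iff.1 hd)
    have h2 : Commute (c.1 : G) (d : G) := (mul_inv_eq_iff_eq_mul.1 h1).symm
    exact c.2 (Subtype.ext (D_inter_C hS hTI hu huH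
      (centralizer_D hS hTI hu huH d.2 (fun h => hd1 (Subtype.ext h)) h2) c.1.2))
  have hX : Nat.card X = Nat.card CC - 1 := by
    classical
    letI := Fintype.ofFinite CC
    rw [Nat.card_eq_fintype_card, Nat.card_eq_fintype_card, Fintype.card_subtype_compl, Fintype.card_subtype_eq]
  have hdvd' : Nat.card D ∣ Nat.card CC - 1 := by rw [← hX]; exact card_dvd_of_free hfree'
  have h3 : 3 ≤ Nat.card D := three_le_D hS hTI hu huH
  have h5 := Nat.dvd_sub hdvd hdvd'
  have : 0 < Nat.card CC := Nat.card_pos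
  rw [show Nat.card CC - (Nat.card CC - 1) = 1 by omega, Nat.dvd_one] at h5
  omega

include hS hTI in
theorem C_regular {x y : G ⧸ NH} (hx : x ≠ oo) (hy : y ≠ oo) : ∃! c : CC, (c : G) • x = y := by
  obtain ⟨u, hu, huH⟩ := exists_outside hS
  obtain ⟨s, hs, hsx⟩ := C_transitive hS hTI hu huH hx
  obtain ⟨s', hs', hsy⟩ := C_transitive hS hTI hu huH hy
  refine ⟨⟨s'⁻¹ * s, mul_mem (inv_mem hs') hs⟩, by
    show (s'⁻¹ * s) • x = y
    rw [mul_smul, hsx, ← hsy, inv_smul_smul], fun c hc => ?_⟩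
  have h := C_semiregular hS hTI (mul_mem (inv_mem (mul_mem (inv_mem hs') hs)) c.2) hx
    (by rw [mul_smul, hc, mul_inv_rev, inv_inv, mul_smul, hsy, ← hsx, inv_smul_smul])
  exact Subtype.ext (inv_mul_eq_one.1 h).symm

include hS hTI in
theorem exists_two {x₁ x₂ : G ⧸ NH} (h : x₁ ≠ x₂) {u : G} (hu : orderOf u = 2) (huH : u ∉ NH) :
    ∃ g : G, g • x₁ = oo ∧ g • x₂ = QuotientGroup.mk u := by
  obtain ⟨k, rfl⟩ := QuotientGroup.mk_surjective x₁
  obtain ⟨c, hc, hcx⟩ := C_transitive hS hTI hu huH (y := k⁻¹ • x₂) fun e => h (by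
    rw [← smul_inv_smul k x₂, e, StrongEmbed.smul_mk_one_eq])
  refine ⟨c * k⁻¹, ?_, by rw [mul_smul, hcx]⟩
  rw [mul_smul, ← StrongEmbed.smul_mk_one_eq (g := k), inv_smul_smul]
  exact StrongEmbed.smul_mk_one_iff.2 (C_le_H hc)

include hS hTI in
theorem three_point_stabilizer {g : G} {x₁ x₂ x₃ : G ⧸ NH} (h12 : x₁ ≠ x₂) (h13 : x₁ ≠ x₃) (h23 : x₂ ≠ x₃)
    (e1 : g • x₁ = x₁) (e2 : g • x₂ = x₂) (e3 : g • x₃ = x₃) : g = 1 := by
  obtain ⟨u, hu, huH⟩ := exists_outside hS
  obtain ⟨k, k1, k2⟩ := exists_two hS hTI h12 hu huH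
  have hconj : ∀ {x : G ⧸ NH}, g • x = x → (k * g * k⁻¹) • (k • x) = k • x := fun {x} e => by
    rw [mul_smul, mul_smul, inv_smul_smul, e]
  have hd : k * g * k⁻¹ ∈ NH ⊓ (NH).map (MulAut.conj u).toMonoidHom :=
    StrongEmbed.mem_inf_conj_iff.2 ⟨StrongEmbed.smul_mk_one_iff.1 (k1 ▸ hconj e1),
      StrongEmbed.smul_mk_iff.1 (k2 ▸ hconj e2)⟩
  by_contra hg1
  have hne : k * g * k⁻¹ ≠ 1 := fun h => hg1 (conj_eq_one_iff.1 h)
  obtain ⟨z, hz⟩ := QuotientGroup.mk_surjective (k • x₃)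
  rcases fixed_points hS hTI hu huH hd hne (g := z) (by rw [hz]; exact hconj e3) with h | h <;> rw [hz] at h
  · exact h13 (smul_left_cancel k (h.trans k1.symm)).symm
  · exact h23 (smul_left_cancel k (h.trans k2.symm)).symm

include hS in
theorem even_card_C : Even (Nat.card CC) := by
  obtain ⟨z, hz, hz2, -⟩ := central_invol hS
  exact even_iff_two_dvd.2 (hz2.symm.dvd.trans (orderOf_dvd_natCard _ (S_le_C hS hz)))

theorem smul_oo_iff {g : G} : g • oo = oo ↔ g ∈ NH := StrongEmbed.smul_mk_one_iff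

include hS hTI in
theorem card_points [Fintype (G ⧸ NH)] : Nat.card CC + 1 = Fintype.card (G ⧸ NH) ∧
    ∀ c ∈ CC, c ≠ 1 → ∀ x : G ⧸ NH, c • x = x → x = oo := by
  obtain ⟨u, hu, huH⟩ := exists_outside hS
  refine Zass.kernel_of_regular (fun c hc => MulAction.mem_stabilizer_iff.2 (smul_oo_iff.2 (C_le_H hc)))
    (fun x y hx hy => C_regular hS hTI hx hy) (y := QuotientGroup.mk u) fun h => huH ?_
  exact smul_oo_iff.1 (StrongEmbed.smul_mk_one_eq.trans h)

include hS hTI in
theorem isZassenhaus : Cfsg.IsZassenhausGroup G (G ⧸ NH) := by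
  classical
  letI := Fintype.ofFinite (G ⧸ NH)
  obtain ⟨u, hu, huH⟩ := exists_outside hS
  have hou : oo ≠ QuotientGroup.mk u := fun h => huH (smul_oo_iff.1 (StrongEmbed.smul_mk_one_eq.trans h.symm))
  have hcard := (card_points hS hTI).1
  have hC4 : 2 ≤ Nat.card CC := by
    obtain ⟨k, hk⟩ := even_card_C hS
    have : 0 < Nat.card CC := Nat.card_pos
    omega
  obtain ⟨w⟩ := Function.Embedding.nonempty_of_card_le (α := Fin 3) (β := G ⧸ NH)
    (by rw [Fintype.card_fin]; omega)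
  refine ⟨⟨fun {g g'} h => ?_⟩, MulAction.is_two_pretransitive_iff.2 fun {a b c d} hab hcd => ?_,
    fun g a b c hab hbc hac h1 h2 h3 => three_point_stabilizer hS hTI hab hac hbc h1 h2 h3, ?_, fun N hN hNt => ?_⟩
  · have hfix : ∀ x : G ⧸ NH, (g'⁻¹ * g) • x = x := fun x => by rw [mul_smul, h x, inv_smul_smul]
    exact (inv_mul_eq_one.1 (three_point_stabilizer hS hTI (w.injective.ne (show (0 : Fin 3) ≠ 1 by decide))
      (w.injective.ne (show (0 : Fin 3) ≠ 2 by decide)) (w.injective.ne (show (1 : Fin 3) ≠ 2 by decide))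
      (hfix _) (hfix _) (hfix _))).symm
  · obtain ⟨g, g1, g2⟩ := exists_two hS hTI hab hu huH
    obtain ⟨k, k1, k2⟩ := exists_two hS hTI hcd hu huH
    exact ⟨k⁻¹ * g, by rw [mul_smul, g1, ← k1, inv_smul_smul], by rw [mul_smul, g2, ← k2, inv_smul_smul]⟩
  · have h3 := three_le_D hS hTI hu huH
    haveI : Nontrivial ↥(NH ⊓ (NH).map (MulAut.conj u).toMonoidHom) := Finite.one_lt_card_iff_nontrivial.1 (by omega)
    obtain ⟨d, hd⟩ := exists_ne (1 : ↥(NH ⊓ (NH).map (MulAut.conj u).toMonoidHom))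
    refine ⟨d, fun h => hd (Subtype.ext h), oo, QuotientGroup.mk u, hou, smul_oo_iff.2 d.2.1, ?_⟩
    exact StrongEmbed.smul_mk_iff.2 (StrongEmbed.mem_inf_conj_iff.1 d.2).2
  · by_contra hno
    push Not at hno
    haveI := hN
    have hNH : ∀ n : N, (n : G) ∈ NH → n = 1 := fun n hn => by
      have : n ∈ MulAction.stabilizer N oo := smul_oo_iff.2 hn
      exact mem_bot.1 (le_of_eq (hno oo) this)
    have hcN : Nat.card N = Fintype.card (G ⧸ NH) := by
      rw [← Nat.card_eq_fintype_card]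
      refine Nat.card_congr (Equiv.ofBijective (fun n : N => (n : G) • oo) ⟨fun a b h => ?_, fun x =>
        hNt.exists_smul_eq oo x⟩)
      refine (inv_mul_eq_one.1 (hNH (b⁻¹ * a) (smul_oo_iff.1 ?_))).symm
      have h' : (a : G) • oo = (b : G) • oo := h
      push_cast
      rw [mul_smul, h', inv_smul_smul]
    have hodd : ¬ 2 ∣ Nat.card N := by
      obtain ⟨k, hk⟩ := even_card_C hS
      omega
    obtain ⟨t, ht, t', ht', ht2, ht2', hne⟩ := two_invols hS
    have hinv : ∀ {v : G}, v ∈ (S : Subgroup G) → orderOf v = 2 → ∀ n : N, v * (n : G) * v⁻¹ = (n : G)⁻¹ := by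
      intro v hv hv2 n
      have hfp : MonoidHom.FixedPointFree (MulAut.conjNormal v : N ≃* N).toMonoidHom := fun y hy => by
        have h1 : v * (y : G) * v⁻¹ = y := by
          have := congrArg Subtype.val hy
          rwa [MulEquiv.coe_toMonoidHom, MulAut.conjNormal_apply] at this
        exact hNH y (C_le_H ((mem_cent_iff hS hv hv2).2 (mul_inv_eq_iff_eq_mul.1 h1).symm))
      have hi : Function.Involutive (MulAut.conjNormal v : N ≃* N).toMonoidHom := fun y => Subtype.ext (by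
        simp only [MulEquiv.coe_toMonoidHom, MulAut.conjNormal_apply]
        rw [show v * (v * (y : G) * v⁻¹) * v⁻¹ = (v * v) * y * (v * v)⁻¹ by group,
          CfsgLib.Invol.mul_self_eq_one hv2]
        group)
      have h := congrArg Subtype.val (congrFun (hfp.coe_eq_inv_of_involutive hi) n)
      rwa [MulEquiv.coe_toMonoidHom, MulAut.conjNormal_apply] at h
    have hbot : ∀ n : N, n = 1 := fun n => by
      have hc : Commute (n : G) (t * t') := by
        refine (mul_inv_eq_iff_eq_mul.1 ?_ : t * t' * (n : G) = n * (t * t')).symm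
        rw [show t * t' * (n : G) * (t * t')⁻¹ = t * (t' * n * t'⁻¹) * t⁻¹ by group, hinv ht' ht2', ← conj_inv,
          hinv ht ht2, inv_inv]
      refine hNH n (C_le_H ((mem_cent_iff hS (mul_mem ht ht') ?_).2 hc))
      refine CfsgLib.Invol.orderOf_eq_two ?_ fun h => hne ?_
      · rw [(S_comm hS ht' ht).mul_mul_mul_comm, CfsgLib.Invol.mul_self_eq_one ht2,
          CfsgLib.Invol.mul_self_eq_one ht2', one_mul]
      · rwa [mul_eq_one_iff_eq_inv, CfsgLib.Invol.inv_eq_self ht2'] at h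
    haveI : Subsingleton N := ⟨fun a b => (hbot a).trans (hbot b).symm⟩
    have := Nat.card_of_subsingleton (1 : N)
    omega

include hS hTI in
/-- In the trivial intersection case the involution centralisers are elementary abelian. -/
theorem sq_eq_one {t c : G} (ht : orderOf t = 2) (hc : Commute c t) : c ^ 2 = 1 := by
  classical
  letI := Fintype.ofFinite (G ⧸ NH)
  obtain ⟨u, hu, huH⟩ := exists_outside hS
  have hou : oo ≠ QuotientGroup.mk u := fun h => huH (smul_oo_iff.1 (StrongEmbed.smul_mk_one_eq.trans h.symm))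
  have hZ := isZassenhaus hS hTI
  obtain ⟨hcard, hfix⟩ := card_points hS hTI
  set D : Subgroup G := NH ⊓ (NH).map (MulAut.conj u).toMonoidHom with hD
  have hpair : MulAction.stabilizer G oo ⊓ MulAction.stabilizer G (QuotientGroup.mk u : G ⧸ NH) = D := by
    ext g
    rw [hD, Subgroup.mem_inf, MulAction.mem_stabilizer_iff, MulAction.mem_stabilizer_iff, StrongEmbed.mem_inf_conj_iff,
      smul_oo_iff, StrongEmbed.smul_mk_iff]
  have h1 := Zass.card_pair_dvd_sub_two hZ hou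
  have h2 := Zass.large_of_abelian hZ hou CC (fun a ha => MulAction.mem_stabilizer_iff.2 (smul_oo_iff.2 (C_le_H ha)))
    hcard hfix ⟨⟨fun a b => Subtype.ext (C_comm hS a.2 b.2).eq⟩⟩
  rw [hpair] at h1 h2
  have h3 := three_le_D hS hTI hu huH
  have hm : Nat.card CC - 1 = Nat.card D := by
    obtain ⟨k, hk⟩ := h1
    obtain ⟨j, hj⟩ := even_card_C hS
    have : 0 < Nat.card CC := Nat.card_pos
    rw [show Fintype.card (G ⧸ NH) - 2 = Nat.card CC - 1 by omega] at hk h2
    rcases Nat.lt_or_ge k 3 with hk3 | hk3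
    · interval_cases k <;> omega
    · have : Nat.card D * 3 ≤ Nat.card D * k := Nat.mul_le_mul_left _ hk3
      omega
  have key : ∀ a ∈ CC, a ^ 2 = 1 := by
    intro a ha
    by_cases ha1 : a = 1
    · rw [ha1, one_pow]
    let ι : {x : G // orderOf x = 2 ∧ x ∈ NH} → {x : CC // x ≠ 1} := fun x =>
      ⟨⟨x.1, S_le_C hS (invol_mem x.2.2 x.2.1)⟩, fun h => by
        have := x.2.1
        rw [show x.1 = 1 from congrArg Subtype.val h, orderOf_one] at this
        omega⟩
    have hι : Function.Injective ι := fun x y h =>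
      Subtype.ext (congrArg (fun w : {x : CC // x ≠ 1} => ((w.1 : CC) : G)) h)
    have hc' : Nat.card {x : G // orderOf x = 2 ∧ x ∈ NH} = Nat.card {x : CC // x ≠ 1} := by
      rw [← card_D hS hTI hu huH, ← hD, ← hm]
      letI := Fintype.ofFinite CC
      rw [Nat.card_eq_fintype_card, Nat.card_eq_fintype_card, Fintype.card_subtype_compl, Fintype.card_subtype_eq]
    obtain ⟨x, hx⟩ := ((Nat.bijective_iff_injective_and_card ι).2 ⟨hι, hc'⟩).2
      ⟨⟨a, ha⟩, fun h => ha1 (congrArg Subtype.val h)⟩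
    have hxa : x.1 = a := congrArg (fun w : {x : CC // x ≠ 1} => ((w.1 : CC) : G)) hx
    rw [← hxa, sq, CfsgLib.Invol.mul_self_eq_one x.2.1]
  obtain ⟨z, hz, hz2, -⟩ := central_invol hS
  obtain ⟨g, rfl⟩ := isConj_iff.1 (StrongEmbed.isConj_of_invols (stronglyEmbedded hS) hz2 ht)
  have ha : g⁻¹ * c * g ∈ CC := by
    refine (mem_cent_iff hS hz hz2).2 ?_
    have h := hc.map (MulAut.conj g⁻¹).toMonoidHom
    simp only [MulEquiv.coe_toMonoidHom, MulAut.conj_apply, inv_inv] at h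
    rwa [show g⁻¹ * (g * z * g⁻¹) * g = z by group] at h
  calc c ^ 2 = g * (g⁻¹ * c * g) ^ 2 * g⁻¹ := by rw [sq, sq]; group
    _ = 1 := by rw [key _ ha]; group

end CfsgLib.AbelianInvCent
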